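import Groth.Agent.L18.RelProj.Props

/-!
# Relative `Proj` of an algebra generated in degree one by a finite type degree-one part
-/

noncomputable section

namespace Groth.L18.RPGen

open HomogeneousIdeal CategoryTheory AlgebraicGeometry CategoryTheory.Limits Opposite TopologicalSpace

universe u

variable {A σ : Type u} [CommRing A] [SetLike σ A] [AddSubgroupClass σ A] (𝒜 : ℕ → σ) [GradedRing 𝒜]

/-- A property of homogeneous components that is additive and multiplicative holds everywhere if it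
holds on generators. -/
theorem components_induction (hgen : Subring.closure ((𝒜 0 : Set A) ∪ (𝒜 1 : Set A)) = ⊤)
    (P : ℕ → A → Prop) (P_zero : ∀ n, P n 0)
    (P_add : ∀ n x y, x ∈ 𝒜 n → y ∈ 𝒜 n → P n x → P n y → P n (x + y))
    (P_neg : ∀ n x, x ∈ 𝒜 n → P n x → P n (-x))
    (P_mul : ∀ m n x y, x ∈ 𝒜 m → y ∈ 𝒜 n → P m x → P n y → P (m + n) (x * y))
    (h0 : ∀ x ∈ 𝒜 0, P 0 x) (h1 : ∀ x ∈ 𝒜 1, P 1 x) (n : ℕ) (x : A) (hx : x ∈ 𝒜 n) : P n x := by
  classical
  have hm : ∀ a ∈ Submonoid.closure ((𝒜 0 : Set A) ∪ (𝒜 1 : Set A)), ∃ k, a ∈ 𝒜 k ∧ P k a := by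
    intro a ha
    induction ha using Submonoid.closure_induction with
    | mem y hy =>
      rcases hy with hy | hy
      · exact ⟨0, hy, h0 y hy⟩
      · exact ⟨1, hy, h1 y hy⟩
    | one => exact ⟨0, SetLike.one_mem_graded _, h0 _ (SetLike.one_mem_graded _)⟩
    | mul y z _ _ hy hz =>
      obtain ⟨k, hk, pk⟩ := hy
      obtain ⟨l, hl, pl⟩ := hz
      exact ⟨k + l, SetLike.mul_mem_graded hk hl, P_mul k l y z hk hl pk pl⟩
  have hall : ∀ a : A, ∀ m, P m (DirectSum.decompose 𝒜 a m : A) := by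
    intro a
    have ha : a ∈ AddSubgroup.closure (Submonoid.closure ((𝒜 0 : Set A) ∪ (𝒜 1 : Set A)) : Set A) := by
      rw [← Subring.mem_closure_iff, hgen]
      exact Subring.mem_top a
    induction ha using AddSubgroup.closure_induction with
    | mem y hy =>
      intro m
      obtain ⟨k, hk, pk⟩ := hm y hy
      by_cases h : k = m
      · subst h
        rwa [DirectSum.decompose_of_mem_same _ hk]
      · rw [DirectSum.decompose_of_mem_ne _ hk h]
        exact P_zero m
    | zero =>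
      intro m
      rw [DirectSum.decompose_zero, DirectSum.zero_apply, ZeroMemClass.coe_zero]
      exact P_zero m
    | add y z _ _ hy hz =>
      intro m
      rw [DirectSum.decompose_add, DirectSum.add_apply, AddMemClass.coe_add]
      exact P_add m _ _ (SetLike.coe_mem _) (SetLike.coe_mem _) (hy m) (hz m)
    | neg y _ hy =>
      intro m
      rw [DirectSum.decompose_neg, DFinsupp.neg_apply, NegMemClass.coe_neg]
      exact P_neg m _ (SetLike.coe_mem _) (hy m)
  have h := hall x n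
  rwa [DirectSum.decompose_of_mem_same _ hx] at h

/-- If `𝒜` is generated by degrees `≤ 1` and the degree-one part lies in the ideal generated by `T`,
then so does the irrelevant ideal. -/
theorem irrelevant_le_span (hgen : Subring.closure ((𝒜 0 : Set A) ∪ (𝒜 1 : Set A)) = ⊤) {T : Set A}
    (hT : ∀ x ∈ 𝒜 1, x ∈ Ideal.span T) : (HomogeneousIdeal.irrelevant 𝒜).toIdeal ≤ Ideal.span T := by
  have h : ∀ n, ∀ x ∈ 𝒜 n, 0 < n → x ∈ Ideal.span T := by
    refine components_induction 𝒜 hgen (fun n x => 0 < n → x ∈ Ideal.span T) ?_ ?_ ?_ ?_ ?_ ?_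
    · exact fun _ _ => zero_mem _
    · exact fun _ _ _ _ _ hx hy h => add_mem (hx h) (hy h)
    · exact fun _ _ _ hx h => neg_mem (hx h)
    · intro m n x y _ _ hx hy h
      rcases Nat.eq_zero_or_pos m with rfl | hm
      · exact Ideal.mul_mem_left _ x (hy (by simpa using h))
      · exact Ideal.mul_mem_right y _ (hx hm)
    · exact fun _ _ h => absurd h (lt_irrefl 0)
    · exact fun x hx _ => hT x hx
  classical
  intro z hz
  change z ∈ 𝒜₊ at hz
  rw [HomogeneousIdeal.mem_irrelevant_iff, GradedRing.proj_apply] at hz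
  rw [← DirectSum.sum_support_decompose 𝒜 z]
  refine Ideal.sum_mem _ fun i _ => ?_
  rcases Nat.eq_zero_or_pos i with rfl | hi
  · rw [show (DirectSum.decompose 𝒜 z 0 : A) = 0 from hz]
    exact zero_mem _
  · exact h i _ (SetLike.coe_mem _) hi

/-- The degree-zero localization at a degree-one element is of finite type over `R`, if `𝒜` is
generated by degrees `≤ 1` and the degree-one part is a finitely generated `R`-module. -/
theorem away_finiteType {R : Type u} [CommRing R] (s : R →+* 𝒜 0)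
    (hgen : Subring.closure ((𝒜 0 : Set A) ∪ (𝒜 1 : Set A)) = ⊤) (T : Finset A) (hT : ∀ t ∈ T, t ∈ 𝒜 1)
    (hspan : ∀ x ∈ 𝒜 1, ∃ c : A → R, x = ∑ t ∈ T, (s (c t) : A) * t) (f : A) (hf : f ∈ 𝒜 1) :
    ((HomogeneousLocalization.fromZeroRingHom 𝒜 (Submonoid.powers f)).comp s).FiniteType := by
  classical
  let B := HomogeneousLocalization.Away 𝒜 f
  let φ : R →+* B := (HomogeneousLocalization.fromZeroRingHom 𝒜 (Submonoid.powers f)).comp s
  letI : Algebra R B := φ.toAlgebra
  let g : ↥T → B := fun t =>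
    HomogeneousLocalization.Away.mk 𝒜 hf 1 t (by simpa using hT t t.2)
  let S : Subalgebra R B := Algebra.adjoin R (Set.range g)
  let P : ℕ → A → Prop := fun n x => ∀ hx : x ∈ 𝒜 (n • 1),
    (HomogeneousLocalization.Away.mk 𝒜 hf n x hx : B) ∈ S
  have hval : ∀ r, (φ r).val = Localization.mk (s r : A) 1 := fun r => by
    simp [φ, HomogeneousLocalization.fromZeroRingHom, HomogeneousLocalization.val_mk]
    rfl
  have h1 : ∀ x ∈ 𝒜 1, P 1 x := by
    intro x hx hx'
    obtain ⟨c, hc⟩ := hspan x hx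
    have : (HomogeneousLocalization.Away.mk 𝒜 hf 1 x hx' : B) = ∑ t : ↥T, φ (c t) * g t := by
      apply HomogeneousLocalization.val_injective
      rw [show (∑ t : ↥T, φ (c t) * g t).val = ∑ t : ↥T, (φ (c t) * g t).val from
        map_sum (algebraMap B (Localization (Submonoid.powers f))) _ _, HomogeneousLocalization.Away.val_mk]
      conv_lhs => rw [hc, ← Finset.sum_coe_sort]
      rw [Localization.mk_eq_mk', IsLocalization.mk'_eq_mul_mk'_one, map_sum, Finset.sum_mul]
      refine Finset.sum_congr rfl fun t _ => ?_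
      rw [HomogeneousLocalization.val_mul, hval, HomogeneousLocalization.Away.val_mk, Localization.mk_mul,
        one_mul, Localization.mk_eq_mk', ← IsLocalization.mk'_eq_mul_mk'_one]
    rw [this]
    exact Subalgebra.sum_mem _ fun t _ =>
      Subalgebra.mul_mem _ (S.algebraMap_mem _) (Algebra.subset_adjoin ⟨t, rfl⟩)
  have key : ∀ n, ∀ x ∈ 𝒜 n, P n x := by
    refine components_induction 𝒜 hgen P ?_ ?_ ?_ ?_ ?_ h1
    · intro n hx
      rw [show (HomogeneousLocalization.Away.mk 𝒜 hf n 0 hx : B) = 0 from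
        HomogeneousLocalization.val_injective _ (by simp [Localization.mk_zero])]
      exact S.zero_mem
    · intro n x y hx hy px py hxy
      have hx' : x ∈ 𝒜 (n • 1) := by simpa using hx
      have hy' : y ∈ 𝒜 (n • 1) := by simpa using hy
      rw [show (HomogeneousLocalization.Away.mk 𝒜 hf n (x + y) hxy : B) =
          HomogeneousLocalization.Away.mk 𝒜 hf n x hx' + HomogeneousLocalization.Away.mk 𝒜 hf n y hy' from
        HomogeneousLocalization.val_injective _ (by simp [Localization.add_mk_self])]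
      exact S.add_mem (px hx') (py hy')
    · intro n x hx px hnx
      have hx' : x ∈ 𝒜 (n • 1) := by simpa using hx
      rw [show (HomogeneousLocalization.Away.mk 𝒜 hf n (-x) hnx : B) =
          -(HomogeneousLocalization.Away.mk 𝒜 hf n x hx') from
        HomogeneousLocalization.val_injective _ (by simp [Localization.neg_mk])]
      exact S.neg_mem (px hx')
    · intro m n x y hx hy px py hxy
      have hx' : x ∈ 𝒜 (m • 1) := by simpa using hx
      have hy' : y ∈ 𝒜 (n • 1) := by simpa using hy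
      rw [show (HomogeneousLocalization.Away.mk 𝒜 hf (m + n) (x * y) hxy : B) =
          HomogeneousLocalization.Away.mk 𝒜 hf m x hx' * HomogeneousLocalization.Away.mk 𝒜 hf n y hy' from
        HomogeneousLocalization.val_injective _ (by
          simp [Localization.mk_mul, pow_add])]
      exact S.mul_mem (px hx') (py hy')
    · intro x hx hx'
      have hxf : x * f ∈ 𝒜 1 := by simpa using SetLike.mul_mem_graded hx hf
      rw [show (HomogeneousLocalization.Away.mk 𝒜 hf 0 x hx' : B) =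
          HomogeneousLocalization.Away.mk 𝒜 hf 1 (x * f) (by simpa using hxf) from
        HomogeneousLocalization.val_injective _ (by
          simp only [HomogeneousLocalization.Away.val_mk]
          rw [Localization.mk_eq_mk_iff, Localization.r_iff_exists]
          exact ⟨1, by simp [mul_comm]⟩)]
      exact h1 _ hxf _
  have htop : S = ⊤ := top_le_iff.mp fun b _ => by
    obtain ⟨n, a, ha, rfl⟩ := HomogeneousLocalization.Away.mk_surjective 𝒜 hf b
    exact key n a (by simpa using ha) ha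
  show Algebra.FiniteType R B
  exact ⟨Subalgebra.fg_def.mpr ⟨_, Set.finite_range g, htop⟩⟩

/-- A graded homomorphism onto the degree-one part of a ring generated by degrees `≤ 1` is onto every
positive degree. -/
theorem exists_preimage_of_genDegOne {B τ : Type u} [CommRing B] [SetLike τ B] [AddSubgroupClass τ B]
    {ℬ : ℕ → τ} [GradedRing ℬ] (φ : 𝒜 →+*ᵍ ℬ)
    (hgen : Subring.closure ((ℬ 0 : Set B) ∪ (ℬ 1 : Set B)) = ⊤)
    (h1 : ∀ y ∈ ℬ 1, ∃ x ∈ 𝒜 1, φ x = y) (n : ℕ) (hn : 0 < n) (y : B) (hy : y ∈ ℬ n) :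
    ∃ x ∈ 𝒜 n, φ x = y := by
  have key : ∀ n, ∀ y ∈ ℬ n, 0 < n → ∀ y₀ ∈ ℬ 0, ∃ x ∈ 𝒜 n, φ x = y₀ * y := by
    refine components_induction ℬ hgen (fun n y => 0 < n → ∀ y₀ ∈ ℬ 0, ∃ x ∈ 𝒜 n, φ x = y₀ * y) ?_ ?_ ?_ ?_ ?_ ?_
    · exact fun n _ y₀ _ => ⟨0, zero_mem _, by rw [map_zero, mul_zero]⟩
    · intro n x y _ _ hx hy h y₀ h₀
      obtain ⟨a, ha, hax⟩ := hx h y₀ h₀
      obtain ⟨b, hb, hby⟩ := hy h y₀ h₀
      exact ⟨a + b, add_mem ha hb, by rw [map_add, hax, hby, mul_add]⟩
    · intro n x _ hx h y₀ h₀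
      obtain ⟨a, ha, hax⟩ := hx h y₀ h₀
      exact ⟨-a, neg_mem ha, by rw [map_neg, hax, mul_neg]⟩
    · intro m n x y hxm hyn hx hy h y₀ h₀
      rcases Nat.eq_zero_or_pos m with rfl | hm
      · obtain ⟨b, hb, hby⟩ := hy (by simpa using h) (y₀ * x) (by simpa using SetLike.mul_mem_graded h₀ hxm)
        exact ⟨b, by simpa using hb, by rw [hby, mul_assoc]⟩
      · obtain ⟨a, ha, hax⟩ := hx hm y₀ h₀
        rcases Nat.eq_zero_or_pos n with rfl | hn
        · obtain ⟨b, hb, hbx⟩ := hx hm (y₀ * y) (by simpa using SetLike.mul_mem_graded h₀ hyn)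
          exact ⟨b, by simpa using hb, by rw [hbx]; ring⟩
        · obtain ⟨b, hb, hby⟩ := hy hn 1 (SetLike.one_mem_graded _)
          exact ⟨a * b, SetLike.mul_mem_graded ha hb, by rw [map_mul, hax, hby, one_mul, mul_assoc]⟩
    · exact fun _ _ h => absurd h (lt_irrefl 0)
    · intro y hy _ y₀ h₀
      exact h1 _ (by simpa using SetLike.mul_mem_graded h₀ hy)
  obtain ⟨x, hx, e⟩ := key n y hy hn 1 (SetLike.one_mem_graded _)
  exact ⟨x, hx, by rw [e, one_mul]⟩

end Groth.L18.RPGen

namespace Groth.L18.RP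

open HomogeneousIdeal CategoryTheory AlgebraicGeometry CategoryTheory.Limits Opposite TopologicalSpace

universe u

variable {S P : Scheme.{u}} {𝒮 : RelProj.QCGrAlg S} {p : P ⟶ S}
  {chart : ∀ (U : S.Opens) (hU : IsAffineOpen U), (((p ⁻¹ᵁ U : P.Opens) : Scheme.{u}) ≅ Proj (𝒮.deg U hU))}

/-- The affine cover of `Proj 𝒮(U)` by the generators of degree one. -/
theorem exists_finite_deg_one_cover (hgen : 𝒮.IsGenDegOne) (hft : 𝒮.IsFTDeg 1) (U : S.Opens) (hU : IsAffineOpen U) :
    ∃ 𝒰 : Scheme.AffineOpenCover.{u, u} (Proj (𝒮.deg U hU)), Finite 𝒰.I₀ ∧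
      ∀ j, LocallyOfFiniteType (𝒰.f j ≫ projπ 𝒮 U hU) := by
  obtain ⟨T, hT, hspan⟩ := hft U hU
  refine ⟨Proj.affineOpenCoverOfIrrelevantLESpan (𝒮.deg U hU) (fun t : ↥T => (t : 𝒮.presheaf.obj (op U)))
    (m := fun _ => 1) (fun t => hT t.2) (fun _ => one_pos) ?_, ?_, fun j => ?_⟩
  · rw [show Set.range (fun t : ↥T => (t : 𝒮.presheaf.obj (op U))) = (T : Set _) from Subtype.range_coe]
    refine Groth.L18.RPGen.irrelevant_le_span _ (hgen U hU) fun x hx => ?_
    obtain ⟨c, hc⟩ := hspan x hx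
    rw [hc]
    exact Ideal.sum_mem _ fun t ht => Ideal.mul_mem_left _ _ (Ideal.subset_span ht)
  · exact inferInstanceAs (Finite ↥T)
  · obtain ⟨j, hj⟩ := j
    show LocallyOfFiniteType (Proj.awayι (𝒮.deg U hU) j (hT hj) one_pos ≫ projπ 𝒮 U hU)
    rw [projπ, Proj.awayι_toSpecZero_assoc, ← Spec.map_comp,
      HasRingHomProperty.Spec_iff (P := @LocallyOfFiniteType), CommRingCat.hom_comp]
    exact Groth.L18.RPGen.away_finiteType (𝒮.deg U hU) (𝒮.strZero U hU).hom (hgen U hU) T (fun t ht => hT ht)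
      hspan j (hT hj)

theorem finiteType_of_genDegOne (hP : RelProj.IsRelProj 𝒮 p chart) (hgen : 𝒮.IsGenDegOne) (hft : 𝒮.IsFTDeg 1) :
    LocallyOfFiniteType p ∧ QuasiCompact p := by
  refine ⟨property_of_local hP @LocallyOfFiniteType fun U hU => ?_, property_of_local hP @QuasiCompact fun U hU => ?_⟩
  · obtain ⟨𝒰, -, h⟩ := exists_finite_deg_one_cover hgen hft U hU
    haveI : LocallyOfFiniteType (projπ 𝒮 U hU) :=
      (IsZariskiLocalAtSource.iff_of_openCover (P := @LocallyOfFiniteType) 𝒰.openCover).mpr h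
    unfold projBase
    infer_instance
  · obtain ⟨𝒰, hfin, -⟩ := exists_finite_deg_one_cover hgen hft U hU
    haveI : ∀ j, CompactSpace (𝒰.openCover.X j) := fun j => inferInstanceAs (CompactSpace (Spec (𝒰.X j)))
    haveI : Finite 𝒰.openCover.I₀ := hfin
    haveI : CompactSpace (Proj (𝒮.deg U hU)) := Scheme.OpenCover.compactSpace 𝒰.openCover
    haveI : QuasiCompact (projπ 𝒮 U hU) := (HasAffineProperty.iff_of_isAffine (P := @QuasiCompact)).mpr inferInstance
    unfold projBase
    infer_instance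

theorem map_isClosedImmersion_of_genDegOne {PA PB : Scheme.{u}} {𝒜 ℬ : RelProj.QCGrAlg S}
    (φ : 𝒜.toQCAlg ⟶ ℬ.toQCAlg) (hφ : RelProj.IsGradedHom φ)
    (hirr : ∀ (U : S.Opens) (hU : IsAffineOpen U),
      (ℬ.deg U hU)₊ ≤ ((𝒜.deg U hU)₊).map (RelProj.gradedHomAt φ hφ U hU))
    {pA : PA ⟶ S} {pB : PB ⟶ S}
    {chartA : ∀ (U : S.Opens) (hU : IsAffineOpen U), (((pA ⁻¹ᵁ U : PA.Opens) : Scheme.{u}) ≅ Proj (𝒜.deg U hU))}
    {chartB : ∀ (U : S.Opens) (hU : IsAffineOpen U), (((pB ⁻¹ᵁ U : PB.Opens) : Scheme.{u}) ≅ Proj (ℬ.deg U hU))}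
    (hA : RelProj.IsRelProj 𝒜 pA chartA) (hB : RelProj.IsRelProj ℬ pB chartB)
    (hgen : ℬ.IsGenDegOne)
    (h1 : ∀ (U : S.Opens) (hU : IsAffineOpen U), ∀ y ∈ ℬ.deg U hU 1, ∃ x ∈ 𝒜.deg U hU 1, (φ.hom.app (op U)).hom x = y)
    {h : PB ⟶ PA} (hh : RelProj.IsRelProjMap φ hφ hirr chartA chartB h) : IsClosedImmersion h :=
  property_map φ hφ hirr hA hB @IsClosedImmersion hh fun U hU =>
    Groth.L18.RPLoc.map_property _ (hirr U hU) @IsClosedImmersion fun _ hi s hs =>
      IsClosedImmersion.spec_of_surjective _ <| Groth.L18.RPLoc.away_map_surjective _ hi s hs fun n hn y hy =>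
        Groth.L18.RPGen.exists_preimage_of_genDegOne _ _ (hgen U hU) (h1 U hU) n hn y hy

end Groth.L18.RP
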