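import Groth.Agent.L18.RelProj.Basic

/-!
# Existence of the relative `Proj`
-/

noncomputable section

namespace Groth.L18.RP

open HomogeneousIdeal CategoryTheory AlgebraicGeometry CategoryTheory.Limits Opposite TopologicalSpace

universe u

variable {S : Scheme.{u}} (𝒮 : RelProj.QCGrAlg S)

/-- The pieces `Proj 𝒮(U)`. -/
def functor : S.AffineZariskiSite ⥤ Scheme.{u} where
  obj U := Proj (𝒮.deg U.1 U.2)
  map {U V} f := mapRes 𝒮 V.2 U.2 f.le (Scheme.AffineZariskiSite.toOpens_mono f.le)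
  map_id U := mapRes_self 𝒮 U.2 _
  map_comp {U V W} f g := (mapRes_comp 𝒮 W.2 V.2 U.2 g.le _ f.le _ _).symm

/-- The gluing datum. -/
def glueData : (Scheme.AffineZariskiSite.directedCover S).RelativeGluingData where
  functor := functor 𝒮
  natTrans :=
    { app := fun U => projBase 𝒮 U.1 U.2
      naturality := fun U V f => mapRes_base 𝒮 V.2 U.2 f.le _ }
  equifibered := fun U V f => (isPullback_mapRes 𝒮 V.2 U.2 f.le _).flip

theorem exists_isRelProj : ∃ (P : Scheme.{u}) (p : P ⟶ S)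
    (chart : ∀ (U : S.Opens) (hU : IsAffineOpen U), (((p ⁻¹ᵁ U : P.Opens) : Scheme.{u}) ≅ Proj (𝒮.deg U hU))),
    RelProj.IsRelProj 𝒮 p chart := by
  let G := glueData 𝒮
  haveI : (G.functor ⋙ Scheme.forget).IsLocallyDirected :=
    Scheme.Cover.RelativeGluingData.instIsLocallyDirectedI₀CompFunctorForgetOfIsThin ..
  let p : G.glued ⟶ S := G.toBase
  let ι' : ∀ (U : S.Opens) (hU : IsAffineOpen U), Proj (𝒮.deg U hU) ⟶ G.glued := fun U hU =>
    colimit.ι G.functor (⟨U, hU⟩ : S.AffineZariskiSite)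
  haveI : ∀ (U : S.Opens) (hU : IsAffineOpen U), IsOpenImmersion (ι' U hU) := fun U hU =>
    G.cover.map_prop ⟨U, hU⟩
  have hr : ∀ (U : S.Opens) (hU : IsAffineOpen U),
      Set.range (p ⁻¹ᵁ U).ι.base = Set.range (ι' U hU).base := fun U hU => by
    rw [Scheme.Opens.range_ι]
    refine Eq.trans ?_ (G.preimage_toBase_eq_range_ι ⟨U, hU⟩)
    exact congrArg (p.base ⁻¹' ·) (Scheme.Opens.range_ι U).symm
  refine ⟨G.glued, p, fun U hU => IsOpenImmersion.isoOfRangeEq (p ⁻¹ᵁ U).ι (ι' U hU) (hr U hU),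
    ⟨fun U hU => ?_, fun U hU r => ?_⟩⟩
  · rw [← projBase_ι]
    have h1 : ι' U hU ≫ p = projBase 𝒮 U hU ≫ U.ι := G.ι_toBase ⟨U, hU⟩
    rw [← h1, ← Category.assoc, IsOpenImmersion.isoOfRangeEq_hom_fac]
  · rw [← cancel_mono (ι' U hU), Category.assoc, Category.assoc, IsOpenImmersion.isoOfRangeEq_hom_fac,
      Scheme.homOfLE_ι]
    have hw : Proj.map (𝒮.res hU (hU.basicOpen r) (S.basicOpen_le r)) (𝒮.irrelevant_le_map U hU r) ≫ ι' U hU =
        ι' (S.basicOpen r) (hU.basicOpen r) :=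
      colimit.w G.functor (homOfLE (Scheme.AffineZariskiSite.basicOpen_le (⟨U, hU⟩ : S.AffineZariskiSite) r))
    rw [hw, IsOpenImmersion.isoOfRangeEq_hom_fac]

end Groth.L18.RP
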