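import Groth.Agent.L18.RelProj.Localization
import Mathlib.AlgebraicGeometry.Morphisms.ClosedImmersion

/-!
# `Proj.map` of general graded rings: surjective and bijective homomorphisms
-/

noncomputable section

namespace Groth.L18.RPLoc

open HomogeneousIdeal HomogeneousLocalization CategoryTheory AlgebraicGeometry CategoryTheory.Limits

universe u

variable {A B σ τ : Type u} [CommRing A] [CommRing B] [SetLike σ A] [AddSubgroupClass σ A]
  [SetLike τ B] [AddSubgroupClass τ B] {𝒜 : ℕ → σ} [GradedRing 𝒜] {ℬ : ℕ → τ} [GradedRing ℬ]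
  (φ : 𝒜 →+*ᵍ ℬ) (hφ : ℬ₊ ≤ 𝒜₊.map φ)

theorem away_map_surjective {i : ℕ} (hi : 0 < i) (s : A) (hs : s ∈ 𝒜 i)
    (h : ∀ n : ℕ, 0 < n → ∀ y ∈ ℬ n, ∃ x ∈ 𝒜 n, φ x = y) :
    Function.Surjective (Away.map φ s) := by
  intro x
  obtain ⟨n, b, hb, rfl⟩ := Away.mk_surjective ℬ (φ.2 hs) x
  have hmem : φ s * b ∈ ℬ ((n + 1) • i) := by
    rw [smul_eq_mul, Nat.add_mul, one_mul, add_comm]
    exact SetLike.mul_mem_graded (φ.2 hs) (by simpa using hb)
  obtain ⟨a, ha, hab⟩ := h ((n + 1) • i) (by simpa using hi) _ hmem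
  refine ⟨Away.mk 𝒜 hs (n + 1) a ha, ?_⟩
  rw [Away.map_mk]
  ext
  rw [Away.val_mk, Away.val_mk, Localization.mk_eq_mk_iff, Localization.r_iff_exists]
  refine ⟨1, ?_⟩
  simp only [hab, OneMemClass.coe_one, one_mul]
  show φ s ^ n * (φ s * b) = φ s ^ (n + 1) * b
  ring

theorem away_map_injective {i : ℕ} (hi : 0 < i) (s : A) (hs : s ∈ 𝒜 i)
    (h : ∀ n : ℕ, 0 < n → ∀ x ∈ 𝒜 n, φ x = 0 → x = 0) :
    Function.Injective (Away.map φ s) := by
  rw [injective_iff_map_eq_zero]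
  intro x hx
  obtain ⟨n, a, ha, rfl⟩ := Away.mk_surjective 𝒜 hs x
  rw [Away.map_mk] at hx
  have hx' := congrArg HomogeneousLocalization.val hx
  rw [Away.val_mk, HomogeneousLocalization.val_zero, Localization.mk_eq_mk',
    IsLocalization.mk'_eq_zero_iff] at hx'
  obtain ⟨⟨_, N, rfl⟩, hN⟩ := hx'
  simp only at hN
  have hmem : s ^ (N + 1) * a ∈ 𝒜 ((N + 1) • i + n • i) :=
    SetLike.mul_mem_graded (SetLike.pow_mem_graded _ hs) ha
  have h0 : s ^ (N + 1) * a = 0 := by
    refine h _ (lt_of_lt_of_le (by simpa using hi) (Nat.le_add_right _ _)) _ hmem ?_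
    rw [map_mul, map_pow, pow_succ, mul_assoc, mul_comm (φ s), ← mul_assoc, hN, zero_mul]
  ext
  rw [Away.val_mk, HomogeneousLocalization.val_zero, Localization.mk_eq_mk',
    IsLocalization.mk'_eq_zero_iff]
  exact ⟨⟨s ^ (N + 1), N + 1, rfl⟩, h0⟩

theorem exists_degree_preimage_of_surjective (hsurj : Function.Surjective φ) (n : ℕ) {y : B}
    (hy : y ∈ ℬ n) : ∃ x ∈ 𝒜 n, φ x = y := by
  obtain ⟨x, rfl⟩ := hsurj y
  refine ⟨DirectSum.decompose 𝒜 x n, SetLike.coe_mem _, ?_⟩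
  rw [φ.map_directSumDecompose, DirectSum.decompose_of_mem_same ℬ hy]

theorem map_isClosedImmersion (hsurj : Function.Surjective φ) : IsClosedImmersion (Proj.map φ hφ) :=
  map_property φ hφ @IsClosedImmersion fun i hi s hs =>
    IsClosedImmersion.spec_of_surjective _ <| away_map_surjective φ hi s hs fun n _ y hy =>
      exists_degree_preimage_of_surjective φ hsurj n hy

theorem map_isIso_of_bijOn (hbij : ∀ n : ℕ, 0 < n → Set.BijOn φ (𝒜 n) (ℬ n)) :
    IsIso (Proj.map φ hφ) :=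
  map_property φ hφ (MorphismProperty.isomorphisms Scheme.{u}) fun i hi s hs => by
    have hb : Function.Bijective (Away.map φ s) :=
      ⟨away_map_injective φ hi s hs fun n hn x hx h0 =>
          (hbij n hn).injOn hx (zero_mem _) (by rw [h0, map_zero]),
        away_map_surjective φ hi s hs fun n hn y hy => (hbij n hn).surjOn hy⟩
    have : IsIso (CommRingCat.ofHom (Away.map φ s)) :=
      (ConcreteCategory.isIso_iff_bijective _).mpr hb
    exact MorphismProperty.isomorphisms.infer_property _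

theorem away_fromZero {i : ℕ} (s : A) (hs : s ∈ 𝒜 i) (z : 𝒜 0) (z' : ℬ 0) (h : φ z = z') :
    Away.map φ s (fromZeroRingHom 𝒜 (Submonoid.powers s) z) = fromZeroRingHom ℬ (Submonoid.powers (φ s)) z' := by
  have h0 : fromZeroRingHom 𝒜 (Submonoid.powers s) z = Away.mk 𝒜 hs 0 (z : A) (by simpa using z.2) := by
    apply val_injective
    simp [fromZeroRingHom, HomogeneousLocalization.val_mk, Away.val_mk]
  rw [h0, Away.map_mk]
  apply val_injective
  simp only [fromZeroRingHom, RingHom.coe_mk, MonoidHom.coe_mk, OneHom.coe_mk, HomogeneousLocalization.val_mk,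
    Away.val_mk]
  rw [Localization.mk_eq_mk_iff, Localization.r_iff_exists]
  exact ⟨1, by simp [h]⟩

/-- `Proj.map` commutes with the structure maps to a base whose functions land in degree zero. -/
theorem map_toSpecZero {R R' : CommRingCat.{u}} (a : R ⟶ CommRingCat.of (𝒜 0)) (b : R' ⟶ CommRingCat.of (ℬ 0))
    (c : R ⟶ R') (h : ∀ r, φ (a.hom r : A) = (b.hom (c.hom r) : B)) :
    Proj.map φ hφ ≫ Proj.toSpecZero 𝒜 ≫ Spec.map a = (Proj.toSpecZero ℬ ≫ Spec.map b) ≫ Spec.map c := by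
  refine (Proj.mapAffineOpenCover φ hφ).openCover.hom_ext _ _ fun j => ?_
  obtain ⟨d, t, ht⟩ := j
  show Proj.awayι ℬ (φ t) (φ.2 ht) d.pos ≫ _ = Proj.awayι ℬ (φ t) (φ.2 ht) d.pos ≫ _
  rw [Proj.awayι_comp_map_assoc _ _ d.pos _ ht, Proj.awayι_toSpecZero_assoc, Category.assoc,
    Proj.awayι_toSpecZero_assoc, ← Spec.map_comp, ← Spec.map_comp, ← Spec.map_comp, ← Spec.map_comp]
  congr 1
  refine CommRingCat.hom_ext (RingHom.ext fun r => ?_)
  simp only [CommRingCat.hom_comp, RingHom.comp_apply, CommRingCat.hom_ofHom]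
  exact away_fromZero φ t ht (a.hom r) (b.hom (c.hom r)) (h r)

end Groth.L18.RPLoc
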