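import Groth.Agent.L18.RelProj.Props
import Groth.Prelude.Def_RelProj2

/-!
# The open `X_f` of a relative `Proj` where a global homogeneous section does not vanish
-/

noncomputable section

namespace Groth.L18.RP

open HomogeneousIdeal CategoryTheory AlgebraicGeometry CategoryTheory.Limits Opposite TopologicalSpace

universe u

variable {S P : Scheme.{u}} {𝒮 : RelProj.QCGrAlg S} {p : P ⟶ S}
  {chart : ∀ (U : S.Opens) (hU : IsAffineOpen U), (((p ⁻¹ᵁ U : P.Opens) : Scheme.{u}) ≅ Proj (𝒮.deg U hU))}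

theorem emb_chart_apply (U : S.Opens) (hU : IsAffineOpen U) (y : ((p ⁻¹ᵁ U : P.Opens) : Scheme.{u})) :
    (RelProj.emb p chart U hU).base ((chart U hU).hom.base y) = (p ⁻¹ᵁ U).ι.base y := by
  show ((chart U hU).hom ≫ (chart U hU).inv ≫ (p ⁻¹ᵁ U).ι).base y = _
  rw [Iso.hom_inv_id_assoc]

theorem opensRange_emb (U : S.Opens) (hU : IsAffineOpen U) :
    (RelProj.emb p chart U hU).opensRange = p ⁻¹ᵁ U := by
  show ((chart U hU).inv ≫ (p ⁻¹ᵁ U).ι).opensRange = _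
  rw [Scheme.Hom.opensRange_comp_of_isIso, Scheme.Opens.opensRange_ι]

theorem image_emb (U : S.Opens) (hU : IsAffineOpen U) (B : (Proj (𝒮.deg U hU)).Opens) :
    RelProj.emb p chart U hU ''ᵁ B = (p ⁻¹ᵁ U).ι ''ᵁ ((chart U hU).hom ⁻¹ᵁ B) := by
  refine TopologicalSpace.Opens.ext ?_
  ext x
  constructor
  · rintro ⟨v, hv, rfl⟩
    refine ⟨(chart U hU).inv.base v, ?_, rfl⟩
    show (chart U hU).hom.base ((chart U hU).inv.base v) ∈ B
    rw [← Scheme.Hom.comp_apply, Iso.inv_hom_id]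
    exact hv
  · rintro ⟨y, hy, rfl⟩
    exact ⟨(chart U hU).hom.base y, hy, emb_chart_apply U hU y⟩

/-- Any point over a smaller affine open in both charts. -/
theorem exists_common (hP : RelProj.IsRelProj 𝒮 p chart) {U V : S.Opens} (hU : IsAffineOpen U) (hV : IsAffineOpen V)
    {v : Proj (𝒮.deg U hU)} {v' : Proj (𝒮.deg V hV)}
    (h : (RelProj.emb p chart U hU).base v = (RelProj.emb p chart V hV).base v') :
    ∃ (W : S.Opens) (hW : IsAffineOpen W) (i : W ≤ U) (j : W ≤ V) (hi : ∃ r : Γ(S, U), S.basicOpen r = W)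
      (hj : ∃ r : Γ(S, V), S.basicOpen r = W) (w : Proj (𝒮.deg W hW)),
      (mapRes 𝒮 hU hW hi i).base w = v ∧ (mapRes 𝒮 hV hW hj j).base w = v' := by
  have hxU : p.base ((RelProj.emb p chart U hU).base v) ∈ U := ((chart U hU).inv.base v).2
  have hxV : p.base ((RelProj.emb p chart U hU).base v) ∈ V := h ▸ ((chart V hV).inv.base v').2
  obtain ⟨f, g, e, hx⟩ := exists_basicOpen_le_affine_inter hU hV _ ⟨hxU, hxV⟩
  refine ⟨S.basicOpen f, hU.basicOpen f, S.basicOpen_le f, e.trans_le (S.basicOpen_le g), ⟨f, rfl⟩, ⟨g, e.symm⟩,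
    (chart (S.basicOpen f) (hU.basicOpen f)).hom.base ⟨(RelProj.emb p chart U hU).base v, hx⟩, ?_, ?_⟩
  · refine (RelProj.emb p chart U hU).isOpenEmbedding.injective ?_
    rw [← Scheme.Hom.comp_apply, mapRes, RelProj.map_res_emb hP U hU f]
    exact emb_chart_apply _ _ _
  · refine (RelProj.emb p chart V hV).isOpenEmbedding.injective ?_
    rw [← h, ← Scheme.Hom.comp_apply]
    have key : ∀ {W : S.Opens} (hW : IsAffineOpen W) (eW : S.basicOpen g = W) (j : W ≤ V),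
        mapRes 𝒮 hV hW ⟨g, eW⟩ j ≫ RelProj.emb p chart V hV = RelProj.emb p chart W hW := by
      intro W hW eW j
      subst eW
      exact RelProj.map_res_emb hP V hV g
    rw [key (hU.basicOpen f) e.symm]
    exact emb_chart_apply _ _ _

theorem basicOpen_compat (hP : RelProj.IsRelProj 𝒮 p chart) (f : 𝒮.presheaf.obj (op ⊤)) {U V : S.Opens}
    (hU : IsAffineOpen U) (hV : IsAffineOpen V) {v : Proj (𝒮.deg U hU)} {v' : Proj (𝒮.deg V hV)}
    (h : (RelProj.emb p chart U hU).base v = (RelProj.emb p chart V hV).base v')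
    (hv : v ∈ Proj.basicOpen (𝒮.deg U hU) ((𝒮.presheaf.map (homOfLE le_top).op).hom f)) :
    v' ∈ Proj.basicOpen (𝒮.deg V hV) ((𝒮.presheaf.map (homOfLE le_top).op).hom f) := by
  obtain ⟨W, hW, i, j, hi, hj, w, rfl, rfl⟩ := exists_common hP hU hV h
  have e : ∀ {U : S.Opens} (hU : IsAffineOpen U) (i : W ≤ U),
      𝒮.res hU hW i ((𝒮.presheaf.map (homOfLE le_top).op).hom f) = (𝒮.presheaf.map (homOfLE le_top).op).hom f := by
    intro U hU i
    rw [RelProj.QCGrAlg.res_apply, ← ConcreteCategory.comp_apply, ← Functor.map_comp]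
    rfl
  have h1 : 𝒮.res hU hW i ((𝒮.presheaf.map (homOfLE le_top).op).hom f) ∉ w.asHomogeneousIdeal := hv
  show 𝒮.res hV hW j ((𝒮.presheaf.map (homOfLE le_top).op).hom f) ∉ w.asHomogeneousIdeal
  rw [e hV j]
  rwa [e hU i] at h1

theorem exists_basicOpen (hP : RelProj.IsRelProj 𝒮 p chart) (f : 𝒮.presheaf.obj (op ⊤)) :
    ∃ X : P.Opens, ∀ (U : S.Opens) (hU : IsAffineOpen U),
      X ⊓ p ⁻¹ᵁ U = (p ⁻¹ᵁ U).ι ''ᵁ ((chart U hU).hom ⁻¹ᵁ
        Proj.basicOpen (𝒮.deg U hU) ((𝒮.presheaf.map (homOfLE le_top).op).hom f)) := by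
  refine ⟨⨆ U : S.affineOpens, RelProj.emb p chart U.1 U.2 ''ᵁ
    Proj.basicOpen (𝒮.deg U.1 U.2) ((𝒮.presheaf.map (homOfLE le_top).op).hom f), fun U hU => ?_⟩
  rw [← image_emb]
  refine le_antisymm ?_ (le_inf (le_iSup_of_le ⟨U, hU⟩ le_rfl)
    ((RelProj.emb p chart U hU).image_le_opensRange _ |>.trans (opensRange_emb U hU).le))
  intro x hx
  obtain ⟨v, rfl⟩ := (opensRange_emb (chart := chart) U hU).ge hx.2
  obtain ⟨⟨V, hV⟩, v', hv', e⟩ := Opens.mem_iSup.mp hx.1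
  exact ⟨v, basicOpen_compat hP f hV hU e hv', rfl⟩

theorem isAffineHom_basicOpen {d : ℕ} (hd : 0 < d) (f : 𝒮.presheaf.obj (op ⊤))
    (hf : ∀ (U : S.Opens) (hU : IsAffineOpen U), (𝒮.presheaf.map (homOfLE le_top).op).hom f ∈ 𝒮.deg U hU d)
    (X : P.Opens)
    (hX : ∀ (U : S.Opens) (hU : IsAffineOpen U),
      X ⊓ p ⁻¹ᵁ U = (p ⁻¹ᵁ U).ι ''ᵁ ((chart U hU).hom ⁻¹ᵁ
        Proj.basicOpen (𝒮.deg U hU) ((𝒮.presheaf.map (homOfLE le_top).op).hom f))) :
    IsAffineHom (X.ι ≫ p) := by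
  refine ⟨fun U hU => ?_⟩
  rw [Scheme.Hom.comp_preimage, ← Scheme.Hom.isAffineOpen_iff_of_isOpenImmersion X.ι,
    Scheme.Hom.image_preimage_eq_opensRange_inf, Scheme.Opens.opensRange_ι, hX U hU, ← image_emb,
    Scheme.Hom.isAffineOpen_iff_of_isOpenImmersion, ← Proj.opensRange_awayι _ _ (hf U hU) hd]
  exact isAffineOpen_opensRange _

end Groth.L18.RP
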