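import Groth.Agent.L18.ProjBaseChange
import Groth.Agent.L18.RelProj.BasicOpen

/-!
# Relative `Proj` commutes with base change
-/

noncomputable section

namespace Groth.L18.RPBC

open HomogeneousIdeal CategoryTheory AlgebraicGeometry CategoryTheory.Limits Opposite TopologicalSpace

universe u

section Sub

variable {A : Type u} [CommRing A] (𝒜 : ℕ → AddSubgroup A) [GradedRing 𝒜]
variable {R : Type u} [CommRing R] [Algebra R A] (h0 : ∀ r, algebraMap R A r ∈ 𝒜 0)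

/-- The pieces of a grading as submodules over a ring landing in degree zero. -/
def sub (n : ℕ) : Submodule R A :=
  { carrier := 𝒜 n
    add_mem' := fun ha hb => add_mem ha hb
    zero_mem' := zero_mem _
    smul_mem' := fun r x hx => by
      rw [Algebra.smul_def]
      simpa using SetLike.mul_mem_graded (h0 r) hx }

/-- The grading by submodules. -/
@[reducible] def subGraded : GradedAlgebra (sub 𝒜 h0) where
  one_mem := SetLike.one_mem_graded 𝒜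
  mul_mem _ _ _ _ ha hb := SetLike.mul_mem_graded (A := 𝒜) ha hb
  decompose' := fun a => DirectSum.decompose 𝒜 a
  left_inv := fun a => DirectSum.Decomposition.left_inv (ℳ := 𝒜) a
  right_inv := fun d => DirectSum.Decomposition.right_inv (ℳ := 𝒜) d

/-- Identity to the submodule grading. -/
def toSub : letI := subGraded 𝒜 h0; 𝒜 →+*ᵍ sub 𝒜 h0 :=
  letI := subGraded 𝒜 h0
  { RingHom.id A with map_mem := fun hx => hx }

/-- Identity from the submodule grading. -/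
def fromSub : letI := subGraded 𝒜 h0; sub 𝒜 h0 →+*ᵍ 𝒜 :=
  letI := subGraded 𝒜 h0
  { RingHom.id A with map_mem := fun hx => hx }

theorem toSub_irr : letI := subGraded 𝒜 h0;
    (HomogeneousIdeal.irrelevant (sub 𝒜 h0)) ≤ (HomogeneousIdeal.irrelevant 𝒜).map (toSub 𝒜 h0) := by
  letI := subGraded 𝒜 h0
  exact (HomogeneousIdeal.irrelevant_le _).mpr fun i hi x hx =>
    Ideal.mem_map_of_mem (toSub 𝒜 h0) (HomogeneousIdeal.mem_irrelevant_of_mem 𝒜 hi hx)

theorem fromSub_irr : letI := subGraded 𝒜 h0;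
    (HomogeneousIdeal.irrelevant 𝒜) ≤ (HomogeneousIdeal.irrelevant (sub 𝒜 h0)).map (fromSub 𝒜 h0) := by
  letI := subGraded 𝒜 h0
  exact (HomogeneousIdeal.irrelevant_le _).mpr fun i hi x hx =>
    Ideal.mem_map_of_mem (fromSub 𝒜 h0) (HomogeneousIdeal.mem_irrelevant_of_mem (sub 𝒜 h0) hi hx)

/-- `Proj` does not depend on the presentation of the grading. -/
def projSubIso : letI := subGraded 𝒜 h0; Proj 𝒜 ≅ Proj (sub 𝒜 h0) :=
  letI := subGraded 𝒜 h0
  { hom := Proj.map (fromSub 𝒜 h0) (fromSub_irr 𝒜 h0)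
    inv := Proj.map (toSub 𝒜 h0) (toSub_irr 𝒜 h0)
    hom_inv_id := by
      rw [← Proj.map_comp]
      exact (RP.map_congr (g := GradedRingHom.id 𝒜) (DFunLike.ext _ _ fun _ => rfl) (hg := by simp)).trans Proj.map_id
    inv_hom_id := by
      rw [← Proj.map_comp]
      exact (RP.map_congr (g := GradedRingHom.id (sub 𝒜 h0)) (DFunLike.ext _ _ fun _ => rfl) (hg := by simp)).trans
        Proj.map_id }

end Sub

/-- `Proj` of graded rings commutes with base change. -/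
theorem isPullback_map {R R' A A' : CommRingCat.{u}} {𝒜 : ℕ → AddSubgroup A} [GradedRing 𝒜]
    {𝒜' : ℕ → AddSubgroup A'} [GradedRing 𝒜'] (φ : 𝒜 →+*ᵍ 𝒜') (hφ : 𝒜'₊ ≤ 𝒜₊.map φ)
    (ρ : R ⟶ R') (s : R ⟶ CommRingCat.of (𝒜 0)) (s' : R' ⟶ CommRingCat.of (𝒜' 0))
    (hpo : IsPushout ρ (s ≫ CommRingCat.ofHom (algebraMap (𝒜 0) A)) (s' ≫ CommRingCat.ofHom (algebraMap (𝒜' 0) A'))
      (CommRingCat.ofHom (φ : A →+* A'))) :
    IsPullback (Proj.map φ hφ) (Proj.toSpecZero 𝒜' ≫ Spec.map s') (Proj.toSpecZero 𝒜 ≫ Spec.map s) (Spec.map ρ) := by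
  letI : Algebra R R' := ρ.hom.toAlgebra
  letI : Algebra R A := ((algebraMap (𝒜 0) A).comp s.hom).toAlgebra
  letI : Algebra R' A' := ((algebraMap (𝒜' 0) A').comp s'.hom).toAlgebra
  letI : Algebra A A' := (φ : A →+* A').toAlgebra
  letI : Algebra R A' := ((φ : A →+* A').comp ((algebraMap (𝒜 0) A).comp s.hom)).toAlgebra
  haveI : IsScalarTower R A A' := IsScalarTower.of_algebraMap_eq' rfl
  have hw : ∀ r, (φ : A →+* A') (algebraMap R A r) = algebraMap R' A' (ρ.hom r) := fun r =>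
    (ConcreteCategory.congr_hom hpo.w r).symm
  haveI : IsScalarTower R R' A' := IsScalarTower.of_algebraMap_eq hw
  haveI : Algebra.IsPushout R R' A A' := CommRingCat.isPushout_iff_isPushout.1 hpo
  have h0 : ∀ r, algebraMap R A r ∈ 𝒜 0 := fun r => (s.hom r).2
  have h0' : ∀ r, algebraMap R' A' r ∈ 𝒜' 0 := fun r => (s'.hom r).2
  letI := subGraded 𝒜 h0
  letI := subGraded 𝒜' h0'
  let φs : sub 𝒜 h0 →+*ᵍ sub 𝒜' h0' := { (φ : A →+* A') with map_mem := fun hx => φ.2 hx }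
  have hφs : HomogeneousIdeal.irrelevant (sub 𝒜' h0') ≤ (HomogeneousIdeal.irrelevant (sub 𝒜 h0)).map φs := hφ
  have h := ProjBC.isPullback_map φs (fun _ => rfl) hφs
  refine IsPullback.of_iso h (projSubIso 𝒜' h0').symm (projSubIso 𝒜 h0).symm (Iso.refl _) (Iso.refl _) ?_ ?_ ?_ ?_
  all_goals try simp only [Iso.refl_hom, Category.comp_id]
  · show Proj.map φs hφs ≫ Proj.map (toSub 𝒜 h0) (toSub_irr 𝒜 h0) =
      Proj.map (toSub 𝒜' h0') (toSub_irr 𝒜' h0') ≫ Proj.map φ hφ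
    rw [← Proj.map_comp, ← Proj.map_comp]
    exact RP.map_congr (DFunLike.ext _ _ fun _ => rfl)
  · exact (RPLoc.map_toSpecZero (toSub 𝒜' h0') (toSub_irr 𝒜' h0') s'
      (CommRingCat.ofHom (algebraMap R' (sub 𝒜' h0' 0))) (𝟙 R') fun r => rfl).trans
        ((congrArg _ (Spec.map_id _)).trans (Category.comp_id _)) |>.symm
  · exact (RPLoc.map_toSpecZero (toSub 𝒜 h0) (toSub_irr 𝒜 h0) s
      (CommRingCat.ofHom (algebraMap R (sub 𝒜 h0 0))) (𝟙 R) fun r => rfl).trans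
        ((congrArg _ (Spec.map_id _)).trans (Category.comp_id _)) |>.symm
  · exact (Category.id_comp _).symm

end Groth.L18.RPBC

namespace Groth.L18.RPBC

open HomogeneousIdeal CategoryTheory AlgebraicGeometry CategoryTheory.Limits Opposite TopologicalSpace

universe w

variable {Y Y' P P' : Scheme.{w}} {ψ : Y' ⟶ Y} {𝒮 : RelProj.QCGrAlg Y} {𝒮' : RelProj.QCGrAlg Y'}
  {p : P ⟶ Y}
  {chart : ∀ (U : Y.Opens) (hU : IsAffineOpen U), (((p ⁻¹ᵁ U : P.Opens) : Scheme.{w}) ≅ Proj (𝒮.deg U hU))}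
  (hP : RelProj.IsRelProj 𝒮 p chart) {p' : P' ⟶ Y'}
  {chart' : ∀ (U' : Y'.Opens) (hU' : IsAffineOpen U'), (((p' ⁻¹ᵁ U' : P'.Opens) : Scheme.{w}) ≅ Proj (𝒮'.deg U' hU'))}
  (hP' : RelProj.IsRelProj 𝒮' p' chart')

/-- The base change square over affine opens `U' ≤ ψ⁻¹ U`. -/
theorem isPullback_projBase {U : Y.Opens} (hU : IsAffineOpen U) {U' : Y'.Opens} (hU' : IsAffineOpen U')
    (hle : U' ≤ ψ ⁻¹ᵁ U) (φ : 𝒮.deg U hU →+*ᵍ 𝒮'.deg U' hU') (hφ : (𝒮'.deg U' hU')₊ ≤ ((𝒮.deg U hU)₊).map φ)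
    (hpo : IsPushout (ψ.appLE U U' hle) (𝒮.str.app (op U)) (𝒮'.str.app (op U'))
      (CommRingCat.ofHom (φ : 𝒮.presheaf.obj (op U) →+* 𝒮'.presheaf.obj (op U')))) :
    IsPullback (Proj.map φ hφ) (RP.projBase 𝒮' U' hU') (RP.projBase 𝒮 U hU) (ψ.resLE U U' hle) := by
  have h := isPullback_map φ hφ (ψ.appLE U U' hle) (𝒮.strZero U hU) (𝒮'.strZero U' hU') hpo
  refine h.of_iso (Iso.refl _) (Iso.refl _) hU'.isoSpec.symm hU.isoSpec.symm ?_ ?_ ?_ ?_
  · simp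
  · simp [RP.projBase, RP.projπ]
  · simp [RP.projBase, RP.projπ]
  · rw [← cancel_mono U.ι, Category.assoc, Category.assoc]
    refine (congrArg (_ ≫ ·) hU.isoSpec_inv_ι).trans ?_
    simp only [Iso.symm_hom, Scheme.Hom.resLE_comp_ι]
    rw [← Category.assoc, hU'.isoSpec_inv_ι]
    exact (hU.SpecMap_appLE_fromSpec ψ hU' hle)

variable (φ : ∀ (U : Y.Opens) (hU : IsAffineOpen U) (U' : Y'.Opens) (hU' : IsAffineOpen U') (_ : U' ≤ ψ ⁻¹ᵁ U),
      𝒮.deg U hU →+*ᵍ 𝒮'.deg U' hU')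
    (hirr : ∀ (U : Y.Opens) (hU : IsAffineOpen U) (U' : Y'.Opens) (hU' : IsAffineOpen U') (hle : U' ≤ ψ ⁻¹ᵁ U),
      (𝒮'.deg U' hU')₊ ≤ ((𝒮.deg U hU)₊).map (φ U hU U' hU' hle))
    (hpo : ∀ (U : Y.Opens) (hU : IsAffineOpen U) (U' : Y'.Opens) (hU' : IsAffineOpen U') (hle : U' ≤ ψ ⁻¹ᵁ U),
      IsPushout (ψ.appLE U U' hle) (𝒮.str.app (op U)) (𝒮'.str.app (op U'))
        (CommRingCat.ofHom (φ U hU U' hU' hle : 𝒮.presheaf.obj (op U) →+* 𝒮'.presheaf.obj (op U'))))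
    (g : P' ⟶ P)
    (hg : ∀ (U : Y.Opens) (hU : IsAffineOpen U) (U' : Y'.Opens) (hU' : IsAffineOpen U') (hle : U' ≤ ψ ⁻¹ᵁ U),
      (p' ⁻¹ᵁ U').ι ≫ g =
        (chart' U' hU').hom ≫ Proj.map (φ U hU U' hU' hle) (hirr U hU U' hU' hle) ≫ RelProj.emb p chart U hU)

include hP hP' hpo hg

theorem isPullback : IsPullback g p' p ψ := by
  refine IsPullback.flip ?_
  let J := Σ' (U' : Y'.Opens) (U : Y.Opens) (_ : IsAffineOpen U') (_ : IsAffineOpen U), U' ≤ ψ ⁻¹ᵁ U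
  have hcov : ∀ y : Y', ∃ j : J, y ∈ j.1 := by
    intro y
    obtain ⟨_, ⟨U, hU, rfl⟩, hyU, -⟩ := Y.isBasis_affineOpens.exists_subset_of_mem_open
      (Set.mem_univ (ψ.base y)) isOpen_univ
    obtain ⟨_, ⟨U', hU', rfl⟩, hyU', hle⟩ := Y'.isBasis_affineOpens.exists_subset_of_mem_open
      (show y ∈ ψ ⁻¹ᵁ U from hyU) (ψ ⁻¹ᵁ U).isOpen
    exact ⟨⟨U', U, hU', hU, hle⟩, hyU'⟩
  let 𝒰 : Scheme.OpenCover.{w} Y' :=
    { I₀ := J
      X := fun j => j.1
      f := fun j => j.1.ι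
      mem₀ := by
        rw [Scheme.presieve₀_mem_precoverage_iff]
        refine ⟨fun y => ?_, fun _ => inferInstance⟩
        obtain ⟨j, hj⟩ := hcov y
        exact ⟨j, ⟨y, hj⟩, rfl⟩ }
  refine Scheme.isPullback_of_openCover _ _ _ _ 𝒰 fun j => ?_
  obtain ⟨U', U, hU', hU, hle⟩ := j
  have h1 := isPullback_projBase hU hU' hle (φ U hU U' hU' hle) (hirr U hU U' hU' hle) (hpo U hU U' hU' hle)
  have h2 : IsPullback (RelProj.emb p chart U hU) (RP.projBase 𝒮 U hU) p U.ι := by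
    refine (IsOpenImmersion.isPullback (RP.projBase 𝒮 U hU) (RelProj.emb p chart U hU) U.ι p ?_ ?_).flip
    · rw [RelProj.emb, Category.assoc, RP.chart_ι_comp hP U hU]
    · rw [Scheme.Opens.opensRange_ι, RP.opensRange_emb]
  have h3 := (h1.paste_horiz h2).flip
  have h4 : IsPullback (RelProj.emb p' chart' U' hU') (RP.projBase 𝒮' U' hU') p' U'.ι := by
    refine (IsOpenImmersion.isPullback (RP.projBase 𝒮' U' hU') (RelProj.emb p' chart' U' hU') U'.ι p' ?_ ?_).flip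
    · rw [RelProj.emb, Category.assoc, RP.chart_ι_comp hP' U' hU']
    · rw [Scheme.Opens.opensRange_ι, RP.opensRange_emb]
  rw [Scheme.Hom.resLE_comp_ι] at h3
  have e : RelProj.emb p' chart' U' hU' ≫ g =
      Proj.map (φ U hU U' hU' hle) (hirr U hU U' hU' hle) ≫ RelProj.emb p chart U hU := by
    show ((chart' U' hU').inv ≫ (p' ⁻¹ᵁ U').ι) ≫ g = _
    rw [Category.assoc, hg U hU U' hU' hle, Iso.inv_hom_id_assoc]
  rw [← e] at h3
  refine h3.of_iso h4.isoPullback (Iso.refl _) (Iso.refl _) (Iso.refl _) ?_ ?_ ?_ ?_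
  · rw [Iso.refl_hom, Category.comp_id]
    exact h4.isoPullback_hom_snd.symm
  · show (RelProj.emb p' chart' U' hU' ≫ g) ≫ 𝟙 _ = h4.isoPullback.hom ≫ pullback.fst p' U'.ι ≫ g
    rw [Category.comp_id, ← Category.assoc h4.isoPullback.hom, h4.isoPullback_hom_fst]
  · simp [𝒰]
  · simp

end Groth.L18.RPBC
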