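import Mathlib.AlgebraicGeometry.ProjectiveSpectrum.Functor
import Mathlib.AlgebraicGeometry.Morphisms.Affine
import Mathlib.AlgebraicGeometry.Morphisms.IsIso
import Mathlib.RingTheory.Localization.Away.Basic

/-!
# `Proj` of a graded ring localized at a degree zero element
-/

noncomputable section

namespace Groth.L18.RPLoc

open HomogeneousIdeal HomogeneousLocalization CategoryTheory AlgebraicGeometry CategoryTheory.Limits

universe u

variable {A B σ τ : Type u} [CommRing A] [CommRing B] [SetLike σ A] [AddSubgroupClass σ A]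
  [SetLike τ B] [AddSubgroupClass τ B] {𝒜 : ℕ → σ} [GradedRing 𝒜] {ℬ : ℕ → τ} [GradedRing ℬ]
  (φ : 𝒜 →+*ᵍ ℬ) (hφ : ℬ₊ ≤ 𝒜₊.map φ)

theorem isPullback_awayι {i : ℕ} (hi : 0 < i) (s : A) (hs : s ∈ 𝒜 i) :
    IsPullback (Spec.map (CommRingCat.ofHom (Away.map φ s))) (Proj.awayι ℬ (φ s) (φ.2 hs) hi)
      (Proj.awayι 𝒜 s hs hi) (Proj.map φ hφ) := by
  refine IsOpenImmersion.isPullback _ _ _ _ (Proj.awayι_comp_map φ hφ hi s hs) ?_
  rw [Proj.opensRange_awayι, Proj.opensRange_awayι, Proj.map_preimage_basicOpen]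

/-- A property local at the target holds for `Proj.map` if it holds on all charts. -/
theorem map_property (P : MorphismProperty Scheme.{u}) [IsZariskiLocalAtTarget P]
    (H : ∀ (i : ℕ) (_ : 0 < i) (s : A), s ∈ 𝒜 i → P (Spec.map (CommRingCat.ofHom (Away.map φ s)))) :
    P (Proj.map φ hφ) := by
  refine IsZariskiLocalAtTarget.of_openCover (Proj.affineOpenCover 𝒜).openCover fun j => ?_
  have hpb := (isPullback_awayι φ hφ j.1.2 (j.2 : A) j.2.2).flip
  refine (P.arrow_mk_iso_iff ?_).mp (H _ j.1.2 (j.2 : A) j.2.2)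
  exact Arrow.isoMk hpb.isoPullback (Iso.refl _) (by exact hpb.isoPullback_hom_snd.trans (Category.comp_id _).symm)

variable (c : A) (hc : c ∈ 𝒜 0)
  (hloc : letI := (φ : A →+* B).toAlgebra; IsLocalization.Away c B)

include hc hloc

theorem exists_inv : ∃ w ∈ ℬ 0, φ c * w = 1 := by
  letI := (φ : A →+* B).toAlgebra
  haveI : IsLocalization.Away c B := hloc
  obtain ⟨w, hw⟩ := (IsLocalization.Away.algebraMap_isUnit (S := B) c).exists_right_inv
  refine ⟨_, (DirectSum.decompose ℬ w 0).2, ?_⟩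
  have h := DirectSum.coe_decompose_mul_of_left_mem_of_le ℬ (φ.2 hc : φ c ∈ ℬ 0) (n := 0) (b := w) le_rfl
  have hw' : (φ : A →+* B) c * w = 1 := hw
  rw [Nat.sub_zero] at h
  refine Eq.trans ?_ ((congrArg (fun z => (DirectSum.decompose ℬ z 0 : B)) hw').trans
    (DirectSum.decompose_of_mem_same ℬ SetLike.GradedOne.one_mem))
  exact h.symm

/-- `A_(s) → B_(φ s)` is the localization at `c / 1`. -/
theorem isLocalization_away_map {i : ℕ} (s : A) (hs : s ∈ 𝒜 i) :
    letI := (Away.map φ s).toAlgebra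
    IsLocalization.Away (fromZeroRingHom 𝒜 (Submonoid.powers s) ⟨c, hc⟩) (Away ℬ (φ s)) := by
  classical
  letI := (φ : A →+* B).toAlgebra
  haveI : IsLocalization.Away c B := hloc
  letI := (Away.map φ s).toAlgebra
  obtain ⟨w, hw0, hw⟩ := exists_inv φ c hc hloc
  set γ : Away 𝒜 s := fromZeroRingHom 𝒜 (Submonoid.powers s) ⟨c, hc⟩
  have hγ : Away.map φ s γ = fromZeroRingHom ℬ (Submonoid.powers (φ s)) ⟨φ c, φ.2 hc⟩ := by
    have h0 : γ = Away.mk 𝒜 hs 0 c (by simpa using hc) := by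
      apply val_injective
      simp [γ, fromZeroRingHom, HomogeneousLocalization.val_mk, Away.val_mk]
    rw [h0, Away.map_mk]
    apply val_injective
    simp [fromZeroRingHom, HomogeneousLocalization.val_mk, Away.val_mk]
  refine (isLocalization_iff (M := Submonoid.powers γ) (S := Away ℬ (φ s))).mpr ⟨?_, ?_, ?_⟩
  · rintro ⟨_, m, rfl⟩
    show IsUnit (Away.map φ s (γ ^ m))
    rw [map_pow, hγ]
    refine (IsUnit.pow m ?_)
    refine (IsUnit.map (fromZeroRingHom ℬ _) (x := (⟨φ c, φ.2 hc⟩ : ℬ 0)) ?_)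
    exact ⟨⟨(⟨φ c, φ.2 hc⟩ : ℬ 0), (⟨w, hw0⟩ : ℬ 0), Subtype.ext hw, Subtype.ext ((mul_comm w (φ c)).trans hw)⟩, rfl⟩
  · intro y
    obtain ⟨m, b, hb, rfl⟩ := Away.mk_surjective ℬ (φ.2 hs) y
    obtain ⟨⟨a, ⟨_, e, rfl⟩⟩, he⟩ := IsLocalization.surj (Submonoid.powers c) b
    have he' : b * φ (c ^ e) = φ a := he
    have hce : c ^ e ∈ 𝒜 0 := by simpa using SetLike.pow_mem_graded e hc
    set a' : A := (DirectSum.decompose 𝒜 a (m • i) : A)
    have ha' : φ a' = b * φ (c ^ e) := by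
      show φ (DirectSum.decompose 𝒜 a (m • i) : A) = _
      have hbd : b * φ (c ^ e) ∈ ℬ (m • i) := by simpa using SetLike.mul_mem_graded hb (φ.2 hce)
      rw [GradedRingHom.map_directSumDecompose, ← he', DirectSum.decompose_of_mem_same _ hbd]
    refine ⟨⟨Away.mk 𝒜 hs m a' (DirectSum.decompose 𝒜 a (m • i)).2, ⟨γ ^ e, e, rfl⟩⟩, ?_⟩
    show _ * Away.map φ s (γ ^ e) = Away.map φ s (Away.mk 𝒜 hs m a' _)
    rw [map_pow, hγ, Away.map_mk]
    apply val_injective
    simp only [val_mul, val_pow, fromZeroRingHom, RingHom.coe_mk, MonoidHom.coe_mk, OneHom.coe_mk,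
      HomogeneousLocalization.val_mk, Away.val_mk, Localization.mk_pow, Localization.mk_mul]
    rw [Localization.mk_eq_mk_iff, Localization.r_iff_exists]
    exact ⟨1, by simp [ha', map_pow, mul_comm, mul_left_comm]⟩
  · intro x y hxy
    obtain ⟨m, a, ha, rfl⟩ := Away.mk_surjective 𝒜 hs x
    obtain ⟨l, b, hb, rfl⟩ := Away.mk_surjective 𝒜 hs y
    have h1 := congrArg HomogeneousLocalization.val hxy
    simp only [RingHom.algebraMap_toAlgebra, Away.map_mk, Away.val_mk, Localization.mk_eq_mk_iff,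
      Localization.r_iff_exists] at h1
    obtain ⟨⟨_, N, rfl⟩, hN⟩ := h1
    have h2 : φ (s ^ N * (s ^ l * a)) = φ (s ^ N * (s ^ m * b)) := by
      simpa [map_mul, map_pow] using hN
    obtain ⟨⟨_, e, rfl⟩, he⟩ := (IsLocalization.eq_iff_exists (Submonoid.powers c) B).mp h2
    refine ⟨⟨γ ^ e, e, rfl⟩, ?_⟩
    apply val_injective
    simp only [γ, val_mul, val_pow, fromZeroRingHom, RingHom.coe_mk, MonoidHom.coe_mk, OneHom.coe_mk,
      HomogeneousLocalization.val_mk, Away.val_mk, Localization.mk_pow, Localization.mk_mul]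
    rw [Localization.mk_eq_mk_iff, Localization.r_iff_exists]
    refine ⟨⟨s ^ N, N, rfl⟩, ?_⟩
    simp only [Submonoid.coe_mul, SubmonoidClass.coe_pow, OneMemClass.coe_one, one_pow, one_mul]
    simp only at he
    simp only [SetLike.GradeZero.coe_one, one_pow, one_mul]
    linear_combination he

theorem map_isOpenImmersion : IsOpenImmersion (Proj.map φ hφ) :=
  map_property φ hφ @IsOpenImmersion fun i hi s hs => by
    letI := (Away.map φ s).toAlgebra
    haveI := isLocalization_away_map φ c hc hloc s hs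
    exact IsOpenImmersion.of_isLocalization (S := Away ℬ (φ s)) (fromZeroRingHom 𝒜 (Submonoid.powers s) ⟨c, hc⟩)

theorem range_map : Set.range (Proj.map φ hφ).base =
    (Proj.toSpecZero 𝒜).base ⁻¹' (PrimeSpectrum.basicOpen (⟨c, hc⟩ : 𝒜 0) : Set (PrimeSpectrum (𝒜 0))) := by
  ext x
  obtain ⟨j, q, rfl⟩ : ∃ (j : (Proj.affineOpenCover 𝒜).I₀) (q : _),
      (Proj.affineOpenCover 𝒜).f j q = x :=
    ⟨(Proj.affineOpenCover 𝒜).openCover.idx x, (Proj.affineOpenCover 𝒜).openCover.covers x⟩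
  obtain ⟨i, s, hs⟩ := j
  letI := (Away.map φ s).toAlgebra
  haveI := isLocalization_away_map φ c hc hloc s hs
  have hpb := isPullback_awayι φ hφ i.2 s hs
  have hL : (Proj.awayι 𝒜 s hs i.2).base q ∈ Set.range (Proj.map φ hφ).base ↔
      q ∈ Set.range (Spec.map (CommRingCat.ofHom (Away.map φ s))).base := by
    constructor
    · rintro ⟨z, hz⟩
      obtain ⟨z', h1, -⟩ := Scheme.exists_preimage_of_isPullback hpb q z hz.symm
      exact ⟨z', h1⟩
    · rintro ⟨z, rfl⟩
      exact ⟨(Proj.awayι ℬ (φ s) (φ.2 hs) i.2).base z, by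
        rw [← Scheme.Hom.comp_apply, Proj.awayι_comp_map, Scheme.Hom.comp_apply]⟩
  refine hL.trans ?_
  have hr : Set.range (Spec.map (CommRingCat.ofHom (Away.map φ s))).base =
    (PrimeSpectrum.basicOpen (fromZeroRingHom 𝒜 (Submonoid.powers s) ⟨c, hc⟩) : Set (PrimeSpectrum (Away 𝒜 s))) :=
      PrimeSpectrum.localization_away_comap_range (Away ℬ (φ s))
        (fromZeroRingHom 𝒜 (Submonoid.powers s) ⟨c, hc⟩)
  refine (Iff.of_eq (congrArg (q ∈ ·) hr)).trans ?_
  refine Iff.trans ?_ (Iff.of_eq (congrArg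
    (fun z : PrimeSpectrum (𝒜 0) => z ∈ (PrimeSpectrum.basicOpen (⟨c, hc⟩ : 𝒜 0) : Set _))
    (congrArg (fun g => g.base q) (Proj.awayι_toSpecZero 𝒜 s hs i.2)).symm))
  rfl

end Groth.L18.RPLoc
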