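import Groth.Agent.L18.RelProj.Basic
import Groth.Agent.L18.RelProj.ProjHom
import Mathlib.AlgebraicGeometry.ProjectiveSpectrum.Proper

/-!
# Relative `Proj`: uniqueness, induced morphisms, first properties
-/

noncomputable section

namespace Groth.L18.RP

open HomogeneousIdeal CategoryTheory AlgebraicGeometry CategoryTheory.Limits Opposite TopologicalSpace

universe u

variable {S P : Scheme.{u}} {𝒮 : RelProj.QCGrAlg S} {p : P ⟶ S}
  {chart : ∀ (U : S.Opens) (hU : IsAffineOpen U), (((p ⁻¹ᵁ U : P.Opens) : Scheme.{u}) ≅ Proj (𝒮.deg U hU))}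
  (hP : RelProj.IsRelProj 𝒮 p chart)

include hP

theorem chart_projBase (U : S.Opens) (hU : IsAffineOpen U) :
    (chart U hU).hom ≫ projBase 𝒮 U hU = p ∣_ U := by
  rw [← cancel_mono U.ι, Category.assoc, projBase_ι, morphismRestrict_ι]
  exact hP.chart_over U hU

theorem chart_ι_comp (U : S.Opens) (hU : IsAffineOpen U) :
    (chart U hU).inv ≫ (p ⁻¹ᵁ U).ι ≫ p = projBase 𝒮 U hU ≫ U.ι := by
  rw [Iso.inv_comp_eq, projBase_ι]
  exact (hP.chart_over U hU).symm

theorem chart_inv_res (U : S.Opens) (hU : IsAffineOpen U) (r : Γ(S, U)) :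
    Proj.map (𝒮.res hU (hU.basicOpen r) (S.basicOpen_le r)) (𝒮.irrelevant_le_map U hU r) ≫ (chart U hU).inv =
      (chart (S.basicOpen r) (hU.basicOpen r)).inv ≫ P.homOfLE (p.preimage_mono (S.basicOpen_le r)) := by
  rw [Iso.eq_inv_comp, ← Category.assoc, Iso.comp_inv_eq]
  exact (hP.chart_res U hU r).symm

/-- A property local at the target is checked on the local pieces. -/
theorem property_of_local (Q : MorphismProperty Scheme.{u}) [IsZariskiLocalAtTarget Q]
    (H : ∀ (U : S.Opens) (hU : IsAffineOpen U), Q (projBase 𝒮 U hU)) : Q p := by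
  refine IsZariskiLocalAtTarget.of_iSup_eq_top (P := Q) (fun U : S.affineOpens => U.1) (iSup_affineOpens_eq_top S) fun U => ?_
  rw [← chart_projBase hP U.1 U.2, Q.cancel_left_of_respectsIso]
  exact H U.1 U.2

theorem isSeparated : IsSeparated p :=
  property_of_local hP @IsSeparated fun U hU => by
    unfold projBase projπ
    infer_instance

theorem finiteType (hft : ∀ (U : S.Opens) (hU : IsAffineOpen U), (𝒮.str.app (op U)).hom.FiniteType) :
    LocallyOfFiniteType p ∧ QuasiCompact p := by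
  have key : ∀ (U : S.Opens) (hU : IsAffineOpen U),
      Algebra.FiniteType (𝒮.deg U hU 0) (𝒮.presheaf.obj (op U)) ∧ (𝒮.strZero U hU).hom.FiniteType := by
    intro U hU
    have hcomp : ((algebraMap (𝒮.deg U hU 0) (𝒮.presheaf.obj (op U))).comp (𝒮.strZero U hU).hom).FiniteType := hft U hU
    refine ⟨RingHom.finiteType_algebraMap.mp (RingHom.FiniteType.of_comp_finiteType hcomp), ?_⟩
    have h2 : ((GradedRing.projZeroRingHom' (𝒮.deg U hU)).comp (𝒮.str.app (op U)).hom).FiniteType :=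
      (RingHom.FiniteType.of_surjective _ (GradedRing.projZeroRingHom'_surjective _)).comp (hft U hU)
    have e : (GradedRing.projZeroRingHom' (𝒮.deg U hU)).comp (𝒮.str.app (op U)).hom = (𝒮.strZero U hU).hom :=
      RingHom.ext fun r => GradedRing.projZeroRingHom'_apply_coe (𝒜 := 𝒮.deg U hU) ((𝒮.strZero U hU).hom r)
    rwa [e] at h2
  refine ⟨property_of_local hP @LocallyOfFiniteType fun U hU => ?_, property_of_local hP @QuasiCompact fun U hU => ?_⟩
  · haveI := (key U hU).1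
    haveI : LocallyOfFiniteType (Spec.map (𝒮.strZero U hU)) :=
      (HasRingHomProperty.Spec_iff (P := @LocallyOfFiniteType)).mpr (key U hU).2
    unfold projBase projπ
    infer_instance
  · haveI := (key U hU).1
    unfold projBase projπ
    infer_instance

theorem isReduced (hred : ∀ (U : S.Opens) (hU : IsAffineOpen U) (x : 𝒮.presheaf.obj (op U)),
    x ∈ (𝒮.deg U hU)₊ → IsNilpotent x → x = 0) : IsReduced P := by
  have hProj : ∀ (U : S.Opens) (hU : IsAffineOpen U), IsReduced (Proj (𝒮.deg U hU)) := by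
    intro U hU
    refine @IsReduced.of_openCover _ (Proj.affineOpenCover (𝒮.deg U hU)).openCover (fun j => ?_)
    obtain ⟨d, s, hs⟩ := j
    show IsReduced (Spec (CommRingCat.of (HomogeneousLocalization.Away (𝒮.deg U hU) s)))
    haveI : _root_.IsReduced (HomogeneousLocalization.Away (𝒮.deg U hU) s) := by
      refine ⟨fun x ⟨N, hN⟩ => ?_⟩
      obtain ⟨m, a, ha, rfl⟩ := HomogeneousLocalization.Away.mk_surjective (𝒮.deg U hU) hs x
      have h1 := congrArg HomogeneousLocalization.val hN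
      rw [HomogeneousLocalization.val_pow, HomogeneousLocalization.val_zero, HomogeneousLocalization.Away.val_mk,
        Localization.mk_eq_mk', ← IsLocalization.mk'_pow, IsLocalization.mk'_eq_zero_iff] at h1
      obtain ⟨⟨_, l, rfl⟩, hl⟩ := h1
      have hl' : s ^ l * a ^ N = 0 := hl
      have hmem : s * a ∈ 𝒮.deg U hU ((d : ℕ) + m • (d : ℕ)) := SetLike.mul_mem_graded hs ha
      have h0 : s * a = 0 := hred U hU _
        (HomogeneousIdeal.mem_irrelevant_of_mem _ (Nat.add_pos_left d.pos _) hmem)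
        ⟨l + N + 1, by
          rw [mul_pow]
          calc s ^ (l + N + 1) * a ^ (l + N + 1) = (s ^ l * a ^ N) * (s ^ (N + 1) * a ^ (l + 1)) := by ring
            _ = 0 := by rw [hl', zero_mul]⟩
      apply HomogeneousLocalization.val_injective
      rw [HomogeneousLocalization.val_zero, HomogeneousLocalization.Away.val_mk, Localization.mk_eq_mk',
        IsLocalization.mk'_eq_zero_iff]
      exact ⟨⟨s, 1, pow_one s⟩, h0⟩
    infer_instance
  haveI : ∀ U, IsReduced ((preCover p).X U) := fun U => by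
    haveI := hProj U.1 U.2
    exact isReduced_of_isOpenImmersion (chart U.1 U.2).hom
  exact IsReduced.of_openCover P (preCover p)

theorem iSup_eq_top {ι : Type u} (f : ι → 𝒮.presheaf.obj (op ⊤))
    (hgen : ∀ (U : S.Opens) (hU : IsAffineOpen U), ∃ n₀ : ℕ, ∀ n, n₀ ≤ n →
      (𝒮.deg U hU n : Set (𝒮.presheaf.obj (op U))) ⊆
        (Ideal.span (Set.range fun a => (𝒮.presheaf.map (homOfLE (le_top : U ≤ ⊤)).op).hom (f a)) :
          Set (𝒮.presheaf.obj (op U))))
    (X : ι → P.Opens)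
    (hX : ∀ (a : ι) (U : S.Opens) (hU : IsAffineOpen U),
      X a ⊓ p ⁻¹ᵁ U = (p ⁻¹ᵁ U).ι ''ᵁ ((chart U hU).hom ⁻¹ᵁ
        Proj.basicOpen (𝒮.deg U hU) ((𝒮.presheaf.map (homOfLE le_top).op).hom (f a)))) :
    ⨆ a, X a = ⊤ := by
  refine top_le_iff.mp fun x _ => ?_
  obtain ⟨⟨U, hU⟩, hxU⟩ := Opens.mem_iSup.mp ((iSup_affineOpens_eq_top S).ge (trivial : p.base x ∈ (⊤ : S.Opens)))
  let z : Proj (𝒮.deg U hU) := (chart U hU).hom.base ⟨x, hxU⟩
  obtain ⟨a, ha⟩ : ∃ a, (𝒮.presheaf.map (homOfLE (le_top : U ≤ ⊤)).op).hom (f a) ∉ z.asHomogeneousIdeal := by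
    by_contra hall
    obtain ⟨n₀, hn₀⟩ := hgen U hU
    refine z.not_irrelevant_le ((HomogeneousIdeal.irrelevant_le _).mpr fun i hi b hb => ?_)
    have hb2 : b ^ (n₀ + 1) ∈ z.asHomogeneousIdeal.toIdeal := by
      have h1 : b ^ (n₀ + 1) ∈ 𝒮.deg U hU ((n₀ + 1) • i) := SetLike.pow_mem_graded _ hb
      have h2 : n₀ ≤ (n₀ + 1) • i := by rw [smul_eq_mul]; exact (Nat.le_mul_of_pos_right _ hi).trans' (Nat.le_succ _)
      refine (Ideal.span_le.mpr ?_) (hn₀ _ h2 h1)
      rintro _ ⟨a, rfl⟩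
      by_contra h
      exact hall ⟨a, h⟩
    exact z.isPrime.mem_of_pow_mem _ hb2
  refine Opens.mem_iSup.mpr ⟨a, ?_⟩
  have hx : x ∈ (p ⁻¹ᵁ U).ι ''ᵁ ((chart U hU).hom ⁻¹ᵁ
      Proj.basicOpen (𝒮.deg U hU) ((𝒮.presheaf.map (homOfLE le_top).op).hom (f a))) :=
    ⟨⟨x, hxU⟩, (Proj.mem_basicOpen _ _ _).mpr ha, rfl⟩
  rw [← hX a U hU] at hx
  exact hx.1

theorem existsUnique_iso {P' : Scheme.{u}} {p' : P' ⟶ S}
    {chart' : ∀ (U : S.Opens) (hU : IsAffineOpen U), (((p' ⁻¹ᵁ U : P'.Opens) : Scheme.{u}) ≅ Proj (𝒮.deg U hU))}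
    (hP' : RelProj.IsRelProj 𝒮 p' chart') :
    (∃! e : P ⟶ P', ∀ (U : S.Opens) (hU : IsAffineOpen U),
        (p ⁻¹ᵁ U).ι ≫ e = (chart U hU).hom ≫ (chart' U hU).inv ≫ (p' ⁻¹ᵁ U).ι) ∧
      ∀ e : P ⟶ P', (∀ (U : S.Opens) (hU : IsAffineOpen U),
        (p ⁻¹ᵁ U).ι ≫ e = (chart U hU).hom ≫ (chart' U hU).inv ≫ (p' ⁻¹ᵁ U).ι) → IsIso e ∧ e ≫ p' = p := by
  refine ⟨existsUnique_hom p (fun U hU => (chart U hU).hom ≫ (chart' U hU).inv ≫ (p' ⁻¹ᵁ U).ι) fun U hU r => ?_,
    fun e he => ⟨?_, ?_⟩⟩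
  · rw [← Category.assoc, hP.chart_res U hU r, Category.assoc, ← Category.assoc (Proj.map _ _) (chart' U hU).inv,
      chart_inv_res hP' U hU r, Category.assoc, Scheme.homOfLE_ι]
  · obtain ⟨e', he', -⟩ := existsUnique_hom p' (fun U hU => (chart' U hU).hom ≫ (chart U hU).inv ≫ (p ⁻¹ᵁ U).ι)
      fun U hU r => by
        rw [← Category.assoc, hP'.chart_res U hU r, Category.assoc, ← Category.assoc (Proj.map _ _) (chart U hU).inv,
          chart_inv_res hP U hU r, Category.assoc, Scheme.homOfLE_ι]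
    refine ⟨⟨e', hom_ext p fun U hU => ?_, hom_ext p' fun U hU => ?_⟩⟩
    · rw [← Category.assoc, he U hU, Category.assoc, Category.assoc, he' U hU, Iso.inv_hom_id_assoc,
        Iso.hom_inv_id_assoc, Category.comp_id]
    · rw [← Category.assoc, he' U hU, Category.assoc, Category.assoc, he U hU, Iso.inv_hom_id_assoc,
        Iso.hom_inv_id_assoc, Category.comp_id]
  · refine hom_ext p fun U hU => ?_
    rw [← Category.assoc, he U hU, Category.assoc, Category.assoc, chart_ι_comp hP' U hU, projBase_ι]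
    exact hP.chart_over U hU

omit hP

section Map

variable {PA PB : Scheme.{u}} {𝒜 ℬ : RelProj.QCGrAlg S}
  (φ : 𝒜.toQCAlg ⟶ ℬ.toQCAlg) (hφ : RelProj.IsGradedHom φ)
  (hirr : ∀ (U : S.Opens) (hU : IsAffineOpen U),
    (ℬ.deg U hU)₊ ≤ ((𝒜.deg U hU)₊).map (RelProj.gradedHomAt φ hφ U hU))
  {pA : PA ⟶ S} {pB : PB ⟶ S}
  {chartA : ∀ (U : S.Opens) (hU : IsAffineOpen U), (((pA ⁻¹ᵁ U : PA.Opens) : Scheme.{u}) ≅ Proj (𝒜.deg U hU))}
  {chartB : ∀ (U : S.Opens) (hU : IsAffineOpen U), (((pB ⁻¹ᵁ U : PB.Opens) : Scheme.{u}) ≅ Proj (ℬ.deg U hU))}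
  (hA : RelProj.IsRelProj 𝒜 pA chartA) (hB : RelProj.IsRelProj ℬ pB chartB)

theorem gradedHomAt_projBase (U : S.Opens) (hU : IsAffineOpen U) :
    Proj.map (RelProj.gradedHomAt φ hφ U hU) (hirr U hU) ≫ projBase 𝒜 U hU = projBase ℬ U hU := by
  unfold projBase projπ
  rw [← Category.assoc]
  congr 1
  refine (Groth.L18.RPLoc.map_toSpecZero _ (hirr U hU) (𝒜.strZero U hU) (ℬ.strZero U hU) (𝟙 _) fun r => ?_).trans
    (by rw [Spec.map_id, Category.comp_id])
  exact ConcreteCategory.congr_hom (congrArg (fun g => g.app (op U)) φ.comm) r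

include hA hB

theorem existsUnique_map :
    (∃! h : PB ⟶ PA, RelProj.IsRelProjMap φ hφ hirr chartA chartB h) ∧
      ∀ h : PB ⟶ PA, RelProj.IsRelProjMap φ hφ hirr chartA chartB h → h ≫ pA = pB := by
  refine ⟨existsUnique_hom pB (fun U hU =>
      (chartB U hU).hom ≫ Proj.map (RelProj.gradedHomAt φ hφ U hU) (hirr U hU) ≫ (chartA U hU).inv ≫ (pA ⁻¹ᵁ U).ι)
      fun U hU r => ?_, fun h hh => hom_ext pB fun U hU => ?_⟩
  · rw [← Category.assoc, hB.chart_res U hU r, Category.assoc]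
    congr 1
    rw [← Category.assoc, ← Proj.map_comp]
    have e : (ℬ.res hU (hU.basicOpen r) (S.basicOpen_le r)).comp (RelProj.gradedHomAt φ hφ U hU) =
        (RelProj.gradedHomAt φ hφ (S.basicOpen r) (hU.basicOpen r)).comp
          (𝒜.res hU (hU.basicOpen r) (S.basicOpen_le r)) :=
      DFunLike.ext _ _ fun x =>
        (ConcreteCategory.congr_hom (φ.hom.naturality (homOfLE (S.basicOpen_le r)).op) x).symm
    rw [map_congr e (hg := HomogeneousIdeal.irrelevant_le_map_comp (𝒜.irrelevant_le_map U hU r)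
      (hirr (S.basicOpen r) (hU.basicOpen r))), Proj.map_comp, Category.assoc,
      ← Category.assoc (Proj.map (𝒜.res hU (hU.basicOpen r) (S.basicOpen_le r)) _), chart_inv_res hA U hU r,
      Category.assoc, Scheme.homOfLE_ι]
    all_goals first
      | exact 𝒜.irrelevant_le_map U hU r
      | exact hirr _ _
  · rw [← Category.assoc, hh U hU, Category.assoc, Category.assoc, Category.assoc, chart_ι_comp hA U hU,
      ← Category.assoc (Proj.map _ _), gradedHomAt_projBase φ hφ hirr U hU, projBase_ι]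
    exact hB.chart_over U hU

theorem property_map (Q : MorphismProperty Scheme.{u}) [IsZariskiLocalAtTarget Q]
    {h : PB ⟶ PA} (hh : RelProj.IsRelProjMap φ hφ hirr chartA chartB h)
    (H : ∀ (U : S.Opens) (hU : IsAffineOpen U), Q (Proj.map (RelProj.gradedHomAt φ hφ U hU) (hirr U hU))) : Q h := by
  have hcomm := (existsUnique_map φ hφ hirr hA hB).2 h hh
  refine IsZariskiLocalAtTarget.of_iSup_eq_top (P := Q) (fun U : S.affineOpens => pA ⁻¹ᵁ U.1) ?_ fun U => ?_
  · exact top_le_iff.mp fun x _ => by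
      obtain ⟨U, hU⟩ := Opens.mem_iSup.mp ((iSup_affineOpens_eq_top S).ge (trivial : pA.base x ∈ (⊤ : S.Opens)))
      exact Opens.mem_iSup.mpr ⟨U, hU⟩
  · have e : h ⁻¹ᵁ (pA ⁻¹ᵁ U.1) = pB ⁻¹ᵁ U.1 := by rw [← Scheme.Hom.comp_preimage, hcomm]
    have : h ∣_ (pA ⁻¹ᵁ U.1) = (PB.isoOfEq e).hom ≫ (chartB U.1 U.2).hom ≫
        Proj.map (RelProj.gradedHomAt φ hφ U.1 U.2) (hirr U.1 U.2) ≫ (chartA U.1 U.2).inv := by
      rw [← cancel_mono (pA ⁻¹ᵁ U.1).ι, morphismRestrict_ι, Category.assoc, Category.assoc, Category.assoc,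
        ← hh U.1 U.2, Scheme.isoOfEq_hom_ι_assoc]
    rw [this, Q.cancel_left_of_respectsIso, Q.cancel_left_of_respectsIso, Q.cancel_right_of_respectsIso]
    exact H U.1 U.2

end Map

end Groth.L18.RP
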