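import Mathlib.AlgebraicGeometry.ProjectiveSpectrum.Proper
import Mathlib.AlgebraicGeometry.IdealSheaf.Basic

/-!
# `D₊(g)` is schematically dense in `Proj` when `g` is a non zero divisor
-/

noncomputable section

namespace Groth.L18.RPDense

open CategoryTheory AlgebraicGeometry CategoryTheory.Limits HomogeneousLocalization TopologicalSpace

universe u

variable {A σ : Type u} [CommRing A] [SetLike σ A] [AddSubgroupClass σ A] (𝒜 : ℕ → σ) [GradedRing 𝒜]

theorem awayMap_injective {d e : ℕ} {t g : A} (ht : t ∈ 𝒜 d) (hg : g ∈ 𝒜 e) (hnz : g ∈ nonZeroDivisors A) :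
    Function.Injective (awayMap 𝒜 hg (rfl : t * g = t * g)) := by
  rw [injective_iff_map_eq_zero]
  intro x hx
  obtain ⟨n, a, ha, rfl⟩ := Away.mk_surjective 𝒜 ht x
  have h := congrArg HomogeneousLocalization.val hx
  rw [HomogeneousLocalization.val_zero] at h
  simp only [HomogeneousLocalization.Away.mk, val_awayMap_mk] at h
  rw [Localization.mk_eq_mk', IsLocalization.mk'_eq_zero_iff] at h
  obtain ⟨⟨_, N, rfl⟩, hN⟩ := h
  simp only at hN
  have h0 : t ^ N * a = 0 := by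
    refine (mem_nonZeroDivisors_iff.mp (pow_mem hnz (N + n))).2 _ ?_
    rw [mul_pow] at hN
    rw [pow_add]
    linear_combination hN
  apply HomogeneousLocalization.val_injective
  rw [Away.val_mk, HomogeneousLocalization.val_zero, Localization.mk_eq_mk', IsLocalization.mk'_eq_zero_iff]
  exact ⟨⟨t ^ N, N, rfl⟩, h0⟩

theorem ker_awayι_eq_bot {e : ℕ} (g : A) (hg : g ∈ 𝒜 e) (he : 0 < e) (hnz : g ∈ nonZeroDivisors A) :
    (Proj.awayι 𝒜 g hg he).ker = ⊥ := by
  refine Scheme.IdealSheafData.ext_of_iSup_eq_top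
    (fun i : (Proj.affineOpenCover 𝒜).I₀ =>
      ⟨((Proj.affineOpenCover 𝒜).f i).opensRange, isAffineOpen_opensRange _⟩)
    (Proj.affineOpenCover 𝒜).openCover.iSup_opensRange fun i => ?_
  obtain ⟨d, t, ht⟩ := i
  rw [Scheme.IdealSheafData.ideal_bot, Pi.bot_apply]
  have hinj : Function.Injective (Spec.map (CommRingCat.ofHom (awayMap 𝒜 hg (rfl : t * g = t * g)))).appTop.hom := by
    have hnat := Scheme.ΓSpecIso_naturality (CommRingCat.ofHom (awayMap 𝒜 hg (rfl : t * g = t * g)))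
    intro a b hab
    apply (ConcreteCategory.bijective_of_isIso (Scheme.ΓSpecIso (CommRingCat.of (Away 𝒜 t))).hom).1
    apply awayMap_injective 𝒜 ht hg hnz
    exact (ConcreteCategory.congr_hom hnat a).symm.trans
      ((congrArg (Scheme.ΓSpecIso (CommRingCat.of (Away 𝒜 (t * g)))).hom.hom hab).trans
        (ConcreteCategory.congr_hom hnat b))
  have H : IsPullback (Spec.map (CommRingCat.ofHom (awayMap 𝒜 hg (rfl : t * g = t * g))))
      (Spec.map (CommRingCat.ofHom (awayMap 𝒜 ht ((rfl : t * g = t * g).trans (mul_comm _ _)))))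
      (Proj.awayι 𝒜 t ht d.2) (Proj.awayι 𝒜 g hg he) :=
    (IsPullback.of_hasPullback (Proj.awayι 𝒜 t ht d.2) (Proj.awayι 𝒜 g hg he)).of_iso
      (Proj.pullbackAwayιIso 𝒜 ht d.2 hg he rfl) (Iso.refl _) (Iso.refl _) (Iso.refl _)
      (by simp [Proj.pullbackAwayιIso_hom_SpecMap_awayMap_left])
      (by simp [Proj.pullbackAwayιIso_hom_SpecMap_awayMap_right]) (by simp) (by simp)
  have h := Scheme.Hom.ker_apply (Spec.map (CommRingCat.ofHom (awayMap 𝒜 hg (rfl : t * g = t * g)))) ⟨⊤, isAffineOpen_top _⟩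
  rw [show RingHom.ker ((Spec.map (CommRingCat.ofHom (awayMap 𝒜 hg (rfl : t * g = t * g)))).app ⊤).hom = ⊥ from
      (RingHom.injective_iff_ker_eq_bot _).mp hinj,
    Scheme.ker_ideal_of_isPullback_of_isOpenImmersion (Proj.awayι 𝒜 g hg he) _ _ _ H] at h
  have himg : (Proj.awayι 𝒜 t ht d.2) ''ᵁ ⊤ = (Proj.awayι 𝒜 t ht d.2).opensRange := Scheme.Hom.image_top_eq_opensRange _
  rw [eq_bot_iff]
  show (Proj.awayι 𝒜 g hg he).ker.ideal ⟨(Proj.awayι 𝒜 t ht d.2).opensRange, isAffineOpen_opensRange _⟩ ≤ ⊥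
  have e1 : (⟨(Proj.awayι 𝒜 t ht d.2).opensRange, isAffineOpen_opensRange _⟩ : (Proj 𝒜).affineOpens) =
      ⟨(Proj.awayι 𝒜 t ht d.2) ''ᵁ ⊤, (isAffineOpen_top _).image_of_isOpenImmersion _⟩ := Subtype.ext himg.symm
  rw [e1]
  intro x hx
  obtain ⟨y, rfl⟩ := (ConcreteCategory.bijective_of_isIso ((Proj.awayι 𝒜 t ht d.2).appIso ⊤).inv).2 x
  have hy : y ∈ (⊥ : Ideal _) := h ▸ hx
  rw [Ideal.mem_bot] at hy ⊢
  rw [hy, map_zero]

theorem ker_basicOpen_ι_eq_bot {e : ℕ} (g : A) (hg : g ∈ 𝒜 e) (he : 0 < e) (hnz : g ∈ nonZeroDivisors A) :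
    (Proj.basicOpen 𝒜 g).ι.ker = ⊥ := by
  rw [show (Proj.basicOpen 𝒜 g).ι = (Proj.basicOpenIsoSpec 𝒜 g hg he).hom ≫ Proj.awayι 𝒜 g hg he from by
      simp [Proj.awayι], Scheme.Hom.ker_comp_of_isIso]
  exact ker_awayι_eq_bot 𝒜 g hg he hnz

end Groth.L18.RPDense
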