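import Groth.Agent.L18.RelProj.Localization
import Groth.Prelude.Def_RelProj

/-!
# Relative `Proj`: the local pieces and gluing of morphisms
-/

noncomputable section

namespace Groth.L18.RP

open HomogeneousIdeal CategoryTheory AlgebraicGeometry CategoryTheory.Limits Opposite TopologicalSpace

universe u

variable {S : Scheme.{u}} (𝒮 : RelProj.QCGrAlg S)

theorem map_congr {A B σ τ : Type u} [CommRing A] [CommRing B] [SetLike σ A] [AddSubgroupClass σ A]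
    [SetLike τ B] [AddSubgroupClass τ B] {𝒜 : ℕ → σ} [GradedRing 𝒜] {ℬ : ℕ → τ} [GradedRing ℬ]
    {f g : 𝒜 →+*ᵍ ℬ} (h : f = g) {hf : ℬ₊ ≤ 𝒜₊.map f} {hg : ℬ₊ ≤ 𝒜₊.map g} :
    Proj.map f hf = Proj.map g hg := by subst h; rfl

/-- `Proj 𝒮(U) ⟶ Spec Γ(S, U)`. -/
def projπ (U : S.Opens) (hU : IsAffineOpen U) : Proj (𝒮.deg U hU) ⟶ Spec Γ(S, U) :=
  Proj.toSpecZero (𝒮.deg U hU) ≫ Spec.map (𝒮.strZero U hU)

/-- `Proj 𝒮(U) ⟶ U`. -/
def projBase (U : S.Opens) (hU : IsAffineOpen U) : Proj (𝒮.deg U hU) ⟶ U.toScheme :=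
  projπ 𝒮 U hU ≫ hU.isoSpec.inv

theorem projBase_ι (U : S.Opens) (hU : IsAffineOpen U) :
    projBase 𝒮 U hU ≫ U.ι = Proj.toSpecZero (𝒮.deg U hU) ≫ Spec.map (𝒮.strZero U hU) ≫ hU.fromSpec := by
  rw [projBase, projπ, Category.assoc, Category.assoc, hU.isoSpec_inv_ι]

theorem irr {U V : S.Opens} (hU : IsAffineOpen U) (hV : IsAffineOpen V) (h : ∃ r : Γ(S, U), S.basicOpen r = V)
    (i : V ≤ U) : (𝒮.deg V hV)₊ ≤ ((𝒮.deg U hU)₊).map (𝒮.res hU hV i) := by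
  obtain ⟨r, rfl⟩ := h
  exact 𝒮.irrelevant_le_map U hU r

/-- Transition maps. -/
def mapRes {U V : S.Opens} (hU : IsAffineOpen U) (hV : IsAffineOpen V) (h : ∃ r : Γ(S, U), S.basicOpen r = V)
    (i : V ≤ U) : Proj (𝒮.deg V hV) ⟶ Proj (𝒮.deg U hU) :=
  Proj.map (𝒮.res hU hV i) (irr 𝒮 hU hV h i)

theorem res_self {U : S.Opens} (hU : IsAffineOpen U) : 𝒮.res hU hU le_rfl = GradedRingHom.id _ := by
  refine DFunLike.ext _ _ fun x => ?_
  show (𝒮.presheaf.map (homOfLE (le_refl U)).op).hom x = x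
  rw [show (homOfLE (le_refl U)).op = 𝟙 _ from rfl, CategoryTheory.Functor.map_id]
  rfl

theorem mapRes_self {U : S.Opens} (hU : IsAffineOpen U) (h : ∃ r : Γ(S, U), S.basicOpen r = U) :
    mapRes 𝒮 hU hU h le_rfl = 𝟙 _ := by
  rw [mapRes, map_congr (res_self 𝒮 hU) (hg := by simp)]
  exact Proj.map_id

theorem res_comp {U V W : S.Opens} (hU : IsAffineOpen U) (hV : IsAffineOpen V) (hW : IsAffineOpen W)
    (i : V ≤ U) (j : W ≤ V) : (𝒮.res hV hW j).comp (𝒮.res hU hV i) = 𝒮.res hU hW (j.trans i) := by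
  refine DFunLike.ext _ _ fun x => ?_
  show (𝒮.presheaf.map (homOfLE j).op).hom ((𝒮.presheaf.map (homOfLE i).op).hom x) =
    (𝒮.presheaf.map (homOfLE (j.trans i)).op).hom x
  rw [show (homOfLE (j.trans i)).op = (homOfLE i).op ≫ (homOfLE j).op from rfl, CategoryTheory.Functor.map_comp]
  rfl

theorem mapRes_comp {U V W : S.Opens} (hU : IsAffineOpen U) (hV : IsAffineOpen V) (hW : IsAffineOpen W)
    (hi : ∃ r : Γ(S, U), S.basicOpen r = V) (i : V ≤ U) (hj : ∃ r : Γ(S, V), S.basicOpen r = W) (j : W ≤ V)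
    (hk : ∃ r : Γ(S, U), S.basicOpen r = W) :
    mapRes 𝒮 hV hW hj j ≫ mapRes 𝒮 hU hV hi i = mapRes 𝒮 hU hW hk (j.trans i) := by
  rw [mapRes, mapRes, mapRes, ← Proj.map_comp]
  exact map_congr (res_comp 𝒮 hU hV hW i j)

theorem mapRes_π {U V : S.Opens} (hU : IsAffineOpen U) (hV : IsAffineOpen V)
    (h : ∃ r : Γ(S, U), S.basicOpen r = V) (i : V ≤ U) :
    mapRes 𝒮 hU hV h i ≫ projπ 𝒮 U hU = projπ 𝒮 V hV ≫ Spec.map (S.presheaf.map (homOfLE i).op) := by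
  refine (Proj.mapAffineOpenCover (𝒮.res hU hV i) (irr 𝒮 hU hV h i)).openCover.hom_ext _ _ fun s => ?_
  obtain ⟨d, t, ht⟩ := s
  show Proj.awayι (𝒮.deg V hV) (𝒮.res hU hV i t) ((𝒮.res hU hV i).2 ht) d.pos ≫ _ =
    Proj.awayι (𝒮.deg V hV) (𝒮.res hU hV i t) ((𝒮.res hU hV i).2 ht) d.pos ≫ _
  rw [mapRes, projπ, projπ, Proj.awayι_comp_map_assoc _ _ d.pos _ ht, Proj.awayι_toSpecZero_assoc, Category.assoc,
    Proj.awayι_toSpecZero_assoc, ← Spec.map_comp, ← Spec.map_comp, ← Spec.map_comp, ← Spec.map_comp]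
  congr 1
  ext x
  simp only [CommRingCat.hom_comp, RingHom.comp_apply, CommRingCat.hom_ofHom]
  have h0 : HomogeneousLocalization.fromZeroRingHom (𝒮.deg U hU) (Submonoid.powers t)
      ((𝒮.strZero U hU).hom x) = HomogeneousLocalization.Away.mk (𝒮.deg U hU) ht 0
        ((𝒮.strZero U hU).hom x : 𝒮.presheaf.obj (op U)) (by simpa using ((𝒮.strZero U hU).hom x).2) := by
    apply HomogeneousLocalization.val_injective
    simp [HomogeneousLocalization.fromZeroRingHom, HomogeneousLocalization.val_mk,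
      HomogeneousLocalization.Away.val_mk]
  rw [h0, HomogeneousLocalization.Away.map_mk]
  simp only [HomogeneousLocalization.fromZeroRingHom, RingHom.coe_mk, MonoidHom.coe_mk, OneHom.coe_mk,
    HomogeneousLocalization.val_mk, HomogeneousLocalization.Away.val_mk]
  rw [Localization.mk_eq_mk_iff, Localization.r_iff_exists]
  refine ⟨1, ?_⟩
  have nat := ConcreteCategory.congr_hom (𝒮.str.naturality (homOfLE i).op) x
  simp only [OneMemClass.coe_one, one_mul, pow_zero, SetLike.GradeZero.coe_one]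
  exact nat.symm

theorem mapRes_base {U V : S.Opens} (hU : IsAffineOpen U) (hV : IsAffineOpen V)
    (h : ∃ r : Γ(S, U), S.basicOpen r = V) (i : V ≤ U) :
    mapRes 𝒮 hU hV h i ≫ projBase 𝒮 U hU = projBase 𝒮 V hV ≫ S.homOfLE i := by
  rw [← cancel_mono U.ι, Category.assoc, Category.assoc, projBase, projBase, Category.assoc, Category.assoc,
    hU.isoSpec_inv_ι, Scheme.homOfLE_ι, hV.isoSpec_inv_ι, ← Category.assoc, mapRes_π, Category.assoc,
    hU.map_fromSpec hV (homOfLE i).op]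

instance isOpenImmersion_mapRes {U V : S.Opens} (hU : IsAffineOpen U) (hV : IsAffineOpen V)
    (h : ∃ r : Γ(S, U), S.basicOpen r = V) (i : V ≤ U) : IsOpenImmersion (mapRes 𝒮 hU hV h i) := by
  obtain ⟨r, rfl⟩ := h
  exact Groth.L18.RPLoc.map_isOpenImmersion _ _ _ (𝒮.str_mem U hU r) (𝒮.isQC U hU r)

theorem range_mapRes {U V : S.Opens} (hU : IsAffineOpen U) (hV : IsAffineOpen V)
    (h : ∃ r : Γ(S, U), S.basicOpen r = V) (i : V ≤ U) :
    Set.range (mapRes 𝒮 hU hV h i).base = (projBase 𝒮 U hU ≫ U.ι).base ⁻¹' (V : Set S) := by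
  obtain ⟨r, rfl⟩ := h
  refine (Groth.L18.RPLoc.range_map _ _ _ (𝒮.str_mem U hU r) (𝒮.isQC U hU r)).trans ?_
  rw [projBase_ι]
  ext x
  rw [Set.mem_preimage, Set.mem_preimage]
  refine Iff.trans ?_ (SetLike.ext_iff.mp (hU.fromSpec_preimage_basicOpen r)
    ((Spec.map (𝒮.strZero U hU)).base ((Proj.toSpecZero (𝒮.deg U hU)).base x))).symm
  rfl

theorem isPullback_mapRes {U V : S.Opens} (hU : IsAffineOpen U) (hV : IsAffineOpen V)
    (h : ∃ r : Γ(S, U), S.basicOpen r = V) (i : V ≤ U) :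
    IsPullback (projBase 𝒮 V hV) (mapRes 𝒮 hU hV h i) (S.homOfLE i) (projBase 𝒮 U hU) := by
  refine IsOpenImmersion.isPullback _ _ _ _ (mapRes_base 𝒮 hU hV h i) ?_
  rw [Scheme.opensRange_homOfLE]
  apply TopologicalSpace.Opens.ext
  rw [Scheme.Hom.coe_opensRange, range_mapRes]
  rfl

section Cover

variable {P : Scheme.{u}} (p : P ⟶ S)

/-- The cover of `P` by preimages of affine opens of `S`. -/
abbrev preCover : P.OpenCover where
  I₀ := S.AffineZariskiSite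
  X U := p ⁻¹ᵁ U.1
  f U := (p ⁻¹ᵁ U.1).ι
  mem₀ := by
    rw [Scheme.presieve₀_mem_precoverage_iff]
    refine ⟨fun x ↦ ?_, inferInstance⟩
    obtain ⟨U, hxU⟩ := TopologicalSpace.Opens.mem_iSup.mp
      ((iSup_affineOpens_eq_top S).ge (Set.mem_univ (p.base x)))
    exact ⟨U, ⟨x, hxU⟩, rfl⟩

instance : (preCover p).LocallyDirected where
  trans {U V} f := P.homOfLE (p.preimage_mono (Scheme.AffineZariskiSite.toOpens_mono f.le))
  trans_id U := by simp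
  trans_comp f g := by simp
  w f := by simp
  directed {U V} x := by
    let a := (pullback.fst (p ⁻¹ᵁ U.1).ι (p ⁻¹ᵁ V.1).ι ≫ (p ⁻¹ᵁ U.1).ι).base x
    have haU : p.base a ∈ U.1 := (pullback.fst (p ⁻¹ᵁ U.1).ι (p ⁻¹ᵁ V.1).ι x).2
    have haV : p.base a ∈ V.1 := by
      have e : a = ((p ⁻¹ᵁ V.1).ι.base (pullback.snd (p ⁻¹ᵁ U.1).ι (p ⁻¹ᵁ V.1).ι x)) :=
        congrArg (fun g : (pullback (p ⁻¹ᵁ U.1).ι (p ⁻¹ᵁ V.1).ι) ⟶ P => g.base x) pullback.condition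
      rw [e]
      exact (pullback.snd (p ⁻¹ᵁ U.1).ι (p ⁻¹ᵁ V.1).ι x).2
    obtain ⟨f, g, e, hxf⟩ := exists_basicOpen_le_affine_inter U.2 V.2 _ ⟨haU, haV⟩
    refine ⟨U.basicOpen f, homOfLE (U.basicOpen_le f), eqToHom (Subtype.ext (by exact e)) ≫
      homOfLE (V.basicOpen_le g), ⟨a, hxf⟩, ?_⟩
    apply (pullback.fst (p ⁻¹ᵁ U.1).ι (p ⁻¹ᵁ V.1).ι ≫ (p ⁻¹ᵁ U.1).ι).isOpenEmbedding.injective
    change (pullback.lift _ _ _ ≫ pullback.fst _ _ ≫ (p ⁻¹ᵁ U.1).ι).base _ = _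
    simp only [pullback.lift_fst_assoc, Scheme.homOfLE_ι, Scheme.Opens.ι_apply]
    rfl

variable {Z : Scheme.{u}}

/-- Morphisms glue from the preimages of affine opens, compatibility on basic opens being enough. -/
theorem existsUnique_hom (h : ∀ (U : S.Opens), IsAffineOpen U → ((p ⁻¹ᵁ U).toScheme ⟶ Z))
    (hc : ∀ (U : S.Opens) (hU : IsAffineOpen U) (r : Γ(S, U)),
      P.homOfLE (p.preimage_mono (S.basicOpen_le r)) ≫ h U hU = h (S.basicOpen r) (hU.basicOpen r)) :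
    ∃! e : P ⟶ Z, ∀ (U : S.Opens) (hU : IsAffineOpen U), (p ⁻¹ᵁ U).ι ≫ e = h U hU := by
  have key : ∀ {U V : S.AffineZariskiSite} (f : U ⟶ V), (preCover p).trans f ≫ h V.1 V.2 = h U.1 U.2 := by
    rintro ⟨U, hU⟩ ⟨V, hV⟩ f
    obtain ⟨r, rfl⟩ : ∃ r, S.basicOpen r = U := f.le
    exact hc V hV r
  refine ⟨(preCover p).glueMorphismsOfLocallyDirected (fun U => h U.1 U.2) key,
    fun U hU => Scheme.OpenCover.map_glueMorphismsOfLocallyDirected (preCover p) _ key ⟨U, hU⟩, fun e he => ?_⟩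
  refine (preCover p).hom_ext _ _ fun U => ?_
  exact (he U.1 U.2).trans (Scheme.OpenCover.map_glueMorphismsOfLocallyDirected (preCover p) _ key U).symm

theorem hom_ext {e e' : P ⟶ Z} (h : ∀ (U : S.Opens), IsAffineOpen U → (p ⁻¹ᵁ U).ι ≫ e = (p ⁻¹ᵁ U).ι ≫ e') :
    e = e' :=
  (preCover p).hom_ext _ _ fun U => h U.1 U.2

end Cover

end Groth.L18.RP
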