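import Groth.Agent.L18.RelProj.BasicOpen
import Mathlib.AlgebraicGeometry.Properties

/-!
# Integrality of relative `Proj`
-/

noncomputable section

namespace Groth.L18.RP

open HomogeneousIdeal CategoryTheory AlgebraicGeometry CategoryTheory.Limits Opposite TopologicalSpace

universe u

section Ring

variable {A σ : Type u} [CommRing A] [SetLike σ A] [AddSubgroupClass σ A] (𝒜 : ℕ → σ) [GradedRing 𝒜]

theorem isNilpotent_of_basicOpen_eq_bot {d : ℕ} (hd : 0 < d) (x : A) (hx : x ∈ 𝒜 d)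
    (h : Proj.basicOpen 𝒜 x = ⊥) : IsNilpotent x := by
  have he : IsEmpty (PrimeSpectrum (HomogeneousLocalization.Away 𝒜 x)) :=
    ⟨fun q => (h ▸ (Proj.opensRange_awayι 𝒜 x hx hd).le ⟨q, rfl⟩ :
      (Proj.awayι 𝒜 x hx hd).base q ∈ (⊥ : (Proj 𝒜).Opens))⟩
  haveI := PrimeSpectrum.isEmpty_iff_subsingleton.mp he
  have h1 := congrArg HomogeneousLocalization.val
    (Subsingleton.elim (1 : HomogeneousLocalization.Away 𝒜 x) 0)
  rw [HomogeneousLocalization.val_one, HomogeneousLocalization.val_zero,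
    ← map_one (algebraMap A (Localization (Submonoid.powers x))), ← IsLocalization.mk'_one (M := Submonoid.powers x),
    IsLocalization.mk'_eq_zero_iff] at h1
  obtain ⟨⟨_, N, rfl⟩, hN⟩ := h1
  exact ⟨N, by simpa using hN⟩

/-- The generic point of `Proj` of a domain. -/
theorem preirreducibleSpace_proj [IsDomain A] : PreirreducibleSpace (Proj 𝒜) := by
  refine ⟨fun U V hU hV ⟨x, _, hxU⟩ ⟨y, _, hyV⟩ => ?_⟩
  let η : ProjectiveSpectrum 𝒜 :=
    { asHomogeneousIdeal := ⊥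
      isPrime := by rw [HomogeneousIdeal.toIdeal_bot]; exact Ideal.isPrime_bot
      not_irrelevant_le := fun h => x.not_irrelevant_le (h.trans bot_le) }
  have key : ∀ (W : Set (Proj 𝒜)), IsOpen W → ∀ z ∈ W, η ∈ W := by
    intro W hW z hz
    obtain ⟨_, ⟨r, rfl⟩, hzr, hrW⟩ :=
      (ProjectiveSpectrum.isTopologicalBasis_basic_opens 𝒜).exists_subset_of_mem_open hz hW
    refine hrW ?_
    show r ∉ η.asHomogeneousIdeal
    intro h
    have h0 : r = 0 := by
      have h' : r ∈ (⊥ : HomogeneousIdeal 𝒜).toIdeal := h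
      simpa using h'
    exact hzr (h0 ▸ z.asHomogeneousIdeal.toIdeal.zero_mem)
  exact ⟨η, trivial, key U hU x hxU, key V hV y hyV⟩

theorem nonempty_proj [IsDomain A] (h : (HomogeneousIdeal.irrelevant 𝒜).toIdeal ≠ ⊥) : Nonempty (Proj 𝒜) :=
  ⟨{ asHomogeneousIdeal := ⊥
     isPrime := by rw [HomogeneousIdeal.toIdeal_bot]; exact Ideal.isPrime_bot
     not_irrelevant_le := fun h' => h (le_bot_iff.mp ((toIdeal_le_toIdeal_iff.mpr h').trans (by simp))) }⟩

end Ring

variable {S P : Scheme.{u}} {𝒮 : RelProj.QCGrAlg S} {p : P ⟶ S}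
  {chart : ∀ (U : S.Opens) (hU : IsAffineOpen U), (((p ⁻¹ᵁ U : P.Opens) : Scheme.{u}) ≅ Proj (𝒮.deg U hU))}

theorem subsingleton_of_empty (𝒮 : RelProj.QCGrAlg S) (U : S.Opens) (hU : ¬ (U : Set S).Nonempty) :
    Subsingleton (𝒮.presheaf.obj (op U)) := by
  have hbot : U = ⊥ := Opens.ext (Set.not_nonempty_iff_eq_empty.mp hU)
  subst hbot
  have : (1 : Γ(S, ⊥)) = 0 := Subsingleton.elim _ _
  refine subsingleton_of_zero_eq_one ?_
  rw [← map_one (𝒮.str.app (op ⊥)).hom, this, map_zero]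

theorem isIntegral_of_domain [IsIntegral S]
    (hint : ∀ (U : S.Opens) (hU : IsAffineOpen U), (U : Set S).Nonempty →
      IsDomain (𝒮.presheaf.obj (op U)) ∧ ((𝒮.deg U hU)₊).toIdeal ≠ ⊥)
    (hP : RelProj.IsRelProj 𝒮 p chart) : IsIntegral P ∧ DenseRange p.base := by
  haveI : IsReduced P := isReduced hP fun U hU x _ hx => by
    by_cases hne : (U : Set S).Nonempty
    · haveI := (hint U hU hne).1
      exact hx.eq_zero
    · haveI := subsingleton_of_empty 𝒮 U hne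
      exact Subsingleton.elim _ _
  have hnon : ∀ (O : S.Opens), (O : Set S).Nonempty → ∃ x : P, p.base x ∈ O := by
    rintro O ⟨y, hy⟩
    obtain ⟨_, ⟨U, hU, rfl⟩, hyU, hUO⟩ := S.isBasis_affineOpens.exists_subset_of_mem_open hy O.isOpen
    haveI := (hint U hU ⟨y, hyU⟩).1
    obtain ⟨v⟩ := nonempty_proj (𝒮.deg U hU) (hint U hU ⟨y, hyU⟩).2
    exact ⟨(RelProj.emb p chart U hU).base v, hUO ((chart U hU).inv.base v).2⟩
  have hirr : ∀ (U : S.Opens) (hU : IsAffineOpen U), (U : Set S).Nonempty →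
      IsPreirreducible ((p ⁻¹ᵁ U : P.Opens) : Set P) := by
    intro U hU hne
    haveI := (hint U hU hne).1
    haveI := preirreducibleSpace_proj (𝒮.deg U hU)
    rw [← opensRange_emb (chart := chart) U hU, Scheme.Hom.coe_opensRange, ← Set.image_univ]
    exact (PreirreducibleSpace.isPreirreducible_univ (X := Proj (𝒮.deg U hU))).image _
      (RelProj.emb p chart U hU).continuous.continuousOn
  have hdense : DenseRange p.base := by
    refine dense_iff_inter_open.mpr fun O hO hne => ?_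
    obtain ⟨x, hx⟩ := hnon ⟨O, hO⟩ hne
    exact ⟨p.base x, hx, x, rfl⟩
  haveI : Nonempty P := by
    obtain ⟨x, -⟩ := hnon ⊤ ⟨Classical.arbitrary S, trivial⟩
    exact ⟨x⟩
  haveI : PreirreducibleSpace P := by
    refine ⟨fun A B hA hB ⟨a, _, ha⟩ ⟨b, _, hb⟩ => ?_⟩
    obtain ⟨⟨U, hU⟩, haU⟩ := Opens.mem_iSup.mp ((iSup_affineOpens_eq_top S).ge (trivial : p.base a ∈ (⊤ : S.Opens)))
    obtain ⟨⟨V, hV⟩, hbV⟩ := Opens.mem_iSup.mp ((iSup_affineOpens_eq_top S).ge (trivial : p.base b ∈ (⊤ : S.Opens)))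
    obtain ⟨y, hyU, hyV⟩ := nonempty_preirreducible_inter U.isOpen V.isOpen ⟨_, haU⟩ ⟨_, hbV⟩
    obtain ⟨_, ⟨W, hW, rfl⟩, hyW, hWUV⟩ := S.isBasis_affineOpens.exists_subset_of_mem_open
      (show y ∈ (U ⊓ V : S.Opens) from ⟨hyU, hyV⟩) (U ⊓ V).isOpen
    obtain ⟨w, hw⟩ := hnon W ⟨y, hyW⟩
    obtain ⟨a', ha'⟩ := hirr U hU ⟨_, haU⟩ A (p ⁻¹ᵁ W : P.Opens) hA (p ⁻¹ᵁ W).isOpen ⟨a, haU, ha⟩
      ⟨w, (hWUV hw).1, hw⟩
    obtain ⟨b', hb'⟩ := hirr V hV ⟨_, hbV⟩ B (p ⁻¹ᵁ W : P.Opens) hB (p ⁻¹ᵁ W).isOpen ⟨b, hbV, hb⟩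
      ⟨w, (hWUV hw).2, hw⟩
    obtain ⟨c, hc⟩ := hirr W hW ⟨y, hyW⟩ A B hA hB ⟨a', ha'.2.2, ha'.2.1⟩ ⟨b', hb'.2.2, hb'.2.1⟩
    exact ⟨c, trivial, hc.2⟩
  haveI : IrreducibleSpace P := ⟨inferInstance⟩
  exact ⟨isIntegral_of_irreducibleSpace_of_isReduced P, hdense⟩

theorem domain_of_isIntegral [IsIntegral S] [IsIntegral P]
    (h0 : ∀ (U : S.Opens) (hU : IsAffineOpen U), Function.Bijective (𝒮.strZero U hU).hom)
    (hred : ∀ (U : S.Opens) (hU : IsAffineOpen U) (x : 𝒮.presheaf.obj (op U)),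
      x ∈ (𝒮.deg U hU)₊ → IsNilpotent x → x = 0)
    (hP : RelProj.IsRelProj 𝒮 p chart) (hdom : DenseRange p.base)
    (U : S.Opens) (hU : IsAffineOpen U) (hne : (U : Set S).Nonempty) :
    IsDomain (𝒮.presheaf.obj (op U)) ∧ ((𝒮.deg U hU)₊).toIdeal ≠ ⊥ := by
  classical
  haveI : Nonempty (U : S.Opens) := hne.to_subtype
  haveI : IsDomain Γ(S, U) := inferInstance
  obtain ⟨x₀, hx₀⟩ := hdom.exists_mem_open U.isOpen hne
  let v₀ : Proj (𝒮.deg U hU) := (chart U hU).hom.base ⟨x₀, hx₀⟩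
  have hirrne : ((𝒮.deg U hU)₊).toIdeal ≠ ⊥ := fun h =>
    v₀.not_irrelevant_le (toIdeal_le_toIdeal_iff.mp (h.le.trans bot_le))
  haveI : Nontrivial (𝒮.presheaf.obj (op U)) := by
    rcases subsingleton_or_nontrivial (𝒮.presheaf.obj (op U)) with h | h
    · exact absurd (Ideal.ext fun x => ⟨fun _ => by simp [Subsingleton.elim x 0], fun hx => by
        simp at hx; simp [hx]⟩) hirrne
    · exact h
  have hnil : ∀ (d : ℕ) (x : 𝒮.presheaf.obj (op U)), 0 < d → x ∈ 𝒮.deg U hU d → x ≠ 0 →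
      ((RelProj.emb p chart U hU ''ᵁ Proj.basicOpen (𝒮.deg U hU) x : P.Opens) : Set P).Nonempty := by
    intro d x hd hx hx0
    rcases (Proj.basicOpen (𝒮.deg U hU) x : Set (Proj (𝒮.deg U hU))).eq_empty_or_nonempty with h | ⟨v, hv⟩
    · exact absurd (hred U hU x (HomogeneousIdeal.mem_irrelevant_of_mem _ hd hx)
        (isNilpotent_of_basicOpen_eq_bot _ hd x hx (Opens.ext h))) hx0
    · exact ⟨_, v, hv, rfl⟩
  have h00 : ∀ (n : ℕ) (r : Γ(S, U)) (y : 𝒮.presheaf.obj (op U)), r ≠ 0 → y ∈ 𝒮.deg U hU n → 0 < n →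
      (𝒮.str.app (op U)).hom r * y = 0 → y = 0 := by
    intro n r y hr hy hn hry
    by_contra hy0
    have hrne : ((S.basicOpen r : S.Opens) : Set S).Nonempty := by
      rw [Set.nonempty_iff_ne_empty]
      intro h
      exact hr ((basicOpen_eq_bot_iff r).mp (Opens.ext h))
    obtain ⟨x₁, hx₁⟩ := hdom.exists_mem_open (S.basicOpen r).isOpen hrne
    obtain ⟨x, hxr, v, hv, rfl⟩ := nonempty_preirreducible_inter (p ⁻¹ᵁ S.basicOpen r).isOpen
      (RelProj.emb p chart U hU ''ᵁ Proj.basicOpen (𝒮.deg U hU) y).isOpen ⟨x₁, hx₁⟩ (hnil n y hn hy hy0)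
    obtain ⟨q, rfl⟩ := (Proj.opensRange_awayι (𝒮.deg U hU) y hy hn).ge hv
    have e : Proj.awayι (𝒮.deg U hU) y hy hn ≫ RelProj.emb p chart U hU ≫ p =
        Spec.map (𝒮.strZero U hU ≫
          CommRingCat.ofHom (HomogeneousLocalization.fromZeroRingHom (𝒮.deg U hU) (Submonoid.powers y))) ≫
            hU.fromSpec := by
      rw [RelProj.emb, Category.assoc, chart_ι_comp hP U hU, projBase_ι, Proj.awayι_toSpecZero_assoc,
        Spec.map_comp, Category.assoc]
    have hq : (Spec.map (𝒮.strZero U hU ≫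
        CommRingCat.ofHom (HomogeneousLocalization.fromZeroRingHom (𝒮.deg U hU) (Submonoid.powers y)))).base q ∈
          hU.fromSpec ⁻¹ᵁ S.basicOpen r := by
      show hU.fromSpec.base _ ∈ S.basicOpen r
      rw [← Scheme.Hom.comp_apply, ← e]
      exact hxr
    rw [hU.fromSpec_preimage_basicOpen r] at hq
    refine hq ?_
    show HomogeneousLocalization.fromZeroRingHom (𝒮.deg U hU) (Submonoid.powers y) ((𝒮.strZero U hU).hom r) ∈ q.asIdeal
    rw [show HomogeneousLocalization.fromZeroRingHom (𝒮.deg U hU) (Submonoid.powers y) ((𝒮.strZero U hU).hom r) = 0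
      from ?_]
    · exact zero_mem _
    apply HomogeneousLocalization.val_injective
    rw [HomogeneousLocalization.val_zero]
    simp only [HomogeneousLocalization.fromZeroRingHom, RingHom.coe_mk, MonoidHom.coe_mk, OneHom.coe_mk,
      HomogeneousLocalization.val_mk]
    rw [Localization.mk_eq_mk', IsLocalization.mk'_eq_zero_iff]
    exact ⟨⟨y, 1, pow_one y⟩, by rw [mul_comm]; exact hry⟩
  have hhom : ∀ {x y : 𝒮.presheaf.obj (op U)}, SetLike.IsHomogeneousElem (𝒮.deg U hU) x →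
      SetLike.IsHomogeneousElem (𝒮.deg U hU) y → x * y = 0 → x = 0 ∨ y = 0 := by
    intro x y ⟨m, hx⟩ ⟨n, hy⟩ hxy
    by_contra hcon
    push Not at hcon
    obtain ⟨hx0, hy0⟩ := hcon
    rcases Nat.eq_zero_or_pos m with rfl | hm
    · obtain ⟨r, hr⟩ := (h0 U hU).2 ⟨x, hx⟩
      have hr' : (𝒮.str.app (op U)).hom r = x := congrArg Subtype.val hr
      have hr0 : r ≠ 0 := fun h => hx0 (by rw [← hr', h, map_zero])
      rcases Nat.eq_zero_or_pos n with rfl | hn
      · obtain ⟨s, hs⟩ := (h0 U hU).2 ⟨y, hy⟩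
        have hs' : (𝒮.str.app (op U)).hom s = y := congrArg Subtype.val hs
        have hrs : r * s = 0 := (h0 U hU).1 (Subtype.ext (by
          rw [map_mul, map_zero]
          show (𝒮.str.app (op U)).hom r * (𝒮.str.app (op U)).hom s = 0
          rw [hr', hs', hxy]))
        rcases mul_eq_zero.mp hrs with h | h
        · exact hr0 h
        · exact hy0 (by rw [← hs', h, map_zero])
      · exact hy0 (h00 n r y hr0 hy hn (by rw [hr', hxy]))
    · rcases Nat.eq_zero_or_pos n with rfl | hn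
      · obtain ⟨s, hs⟩ := (h0 U hU).2 ⟨y, hy⟩
        have hs' : (𝒮.str.app (op U)).hom s = y := congrArg Subtype.val hs
        have hs0 : s ≠ 0 := fun h => hy0 (by rw [← hs', h, map_zero])
        exact hx0 (h00 m s x hs0 hx hm (by rw [hs', mul_comm, hxy]))
      · obtain ⟨z, ⟨v, hv, hvz⟩, ⟨v', hv', hvz'⟩⟩ := nonempty_preirreducible_inter
          (RelProj.emb p chart U hU ''ᵁ Proj.basicOpen (𝒮.deg U hU) x).isOpen
          (RelProj.emb p chart U hU ''ᵁ Proj.basicOpen (𝒮.deg U hU) y).isOpen (hnil m x hm hx hx0) (hnil n y hn hy hy0)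
        obtain rfl := (RelProj.emb p chart U hU).isOpenEmbedding.injective (hvz.trans hvz'.symm)
        exact (v.isPrime.mem_or_mem (show x * y ∈ v.asHomogeneousIdeal.toIdeal by rw [hxy]; exact zero_mem _)).elim
          hv hv'
  refine ⟨?_, hirrne⟩
  have hprime : (⊥ : Ideal (𝒮.presheaf.obj (op U))).IsPrime :=
    (Ideal.IsHomogeneous.bot (𝒮.deg U hU)).isPrime_of_homogeneous_mem_or_mem bot_ne_top
      (fun hx hy hxy => by simpa using hhom hx hy (by simpa using hxy))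
  haveI : NoZeroDivisors (𝒮.presheaf.obj (op U)) :=
    ⟨fun {a b} hab => by simpa using hprime.mem_or_mem (show a * b ∈ (⊥ : Ideal _) by simpa using hab)⟩
  exact NoZeroDivisors.to_isDomain _

end Groth.L18.RP
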